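import Mathlib
import Cfsg.Agent.MaxCent.Basic
import Cfsg.Agent.Transfer.Frobenius

/-!
Groups in which every subgroup of order prime to `p` and divisible by `q` is a `q`-group.
-/

set_option autoImplicit false
set_option linter.style.haveILetI false
set_option linter.unusedSectionVars false

namespace CfsgLib.TwoPrime

open scoped Pointwise
open CfsgLib.MaxCent (IsPElem)

variable {G : Type*} [Group G]

/-- Subgroups of order divisible by `q` but not by `p` are `q`-groups. -/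
def Mixed (q p : ℕ) (G : Type*) [Group G] : Prop :=
  ∀ H : Subgroup G, q ∣ Nat.card H → ¬ p ∣ Nat.card H → IsPGroup q H

/-- All `p`-subgroups are abelian. -/
def AbP (p : ℕ) (G : Type*) [Group G] : Prop :=
  ∀ H : Subgroup G, IsPGroup p H → ∀ a ∈ H, ∀ b ∈ H, a * b = b * a

theorem Mixed.sub {q p : ℕ} (h : Mixed q p G) (K : Subgroup G) : Mixed q p K := fun H h1 h2 => by
  have e := (H.equivMapOfInjective K.subtype K.subtype_injective)
  exact (h _ (by rwa [← Nat.card_congr e.toEquiv]) (by rwa [← Nat.card_congr e.toEquiv])).of_equiv e.symm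

theorem AbP.sub {p : ℕ} (h : AbP p G) (K : Subgroup G) : AbP p K := fun H hH a ha b hb => by
  apply K.subtype_injective
  rw [map_mul, map_mul]
  exact h _ (hH.map K.subtype) _ (Subgroup.mem_map_of_mem _ ha) _ (Subgroup.mem_map_of_mem _ hb)

theorem AbP.comm {p : ℕ} (h : AbP p G) {P : Subgroup G} (hP : IsPGroup p P) {a b : G} (ha : a ∈ P) (hb : b ∈ P) :
    a * b = b * a := h P hP a ha b hb

variable [Finite G]

theorem dvd_card_sup {R : Subgroup G} {y : G} (hy : y ∈ Subgroup.normalizer (R : Set G)) :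
    Nat.card ↥(R ⊔ Subgroup.zpowers y) ∣ Nat.card R * orderOf y := by
  set Y := Subgroup.zpowers y
  set N := Subgroup.normalizer (R : Set G)
  have hRN : R ≤ N := Subgroup.le_normalizer
  have hYN : Y ≤ N := Subgroup.zpowers_le.2 hy
  haveI : (R.subgroupOf N).Normal := Subgroup.normal_in_normalizer
  have h1 : R.relIndex (R ⊔ Y) = R.relIndex Y := by
    rw [← Subgroup.relIndex_subgroupOf (sup_le hRN hYN), ← Subgroup.relIndex_subgroupOf hYN,
      Subgroup.subgroupOf_sup hRN hYN, sup_comm, Subgroup.relIndex_sup_right]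
  rw [← Subgroup.relIndex_bot_left, ← Subgroup.relIndex_mul_relIndex ⊥ R (R ⊔ Y) bot_le le_sup_left,
    Subgroup.relIndex_bot_left, h1, ← Nat.card_zpowers]
  exact Nat.mul_dvd_mul_left _ (Subgroup.relIndex_dvd_card R Y)

variable {q p : ℕ} [hq : Fact q.Prime] [hp : Fact p.Prime]

omit hp in
theorem Mixed.dvd (hM : Mixed q p G) {H : Subgroup G} {s : ℕ} (hs : s.Prime) (hsq : s ≠ q)
    (h1 : q ∣ Nat.card H) (h2 : s ∣ Nat.card H) : p ∣ Nat.card H := by
  by_contra h
  obtain ⟨n, hn⟩ := IsPGroup.iff_card.1 (hM H h1 h)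
  exact hsq ((Nat.prime_dvd_prime_iff_eq hs hq.out).1 (hs.dvd_of_dvd_pow (hn ▸ h2)))

theorem IsPElem.orderOf_eq {x : G} (h : IsPElem p x) : ∃ n, orderOf x = p ^ n := by
  obtain ⟨n, hn⟩ := h
  obtain ⟨k, -, hk⟩ := (Nat.dvd_prime_pow hp.out).1 (orderOf_dvd_of_pow_eq_one hn)
  exact ⟨k, hk⟩

theorem eq_one_of_coprime {x : G} (h : IsPElem p x) (h' : (orderOf x).Coprime p) : x = 1 := by
  obtain ⟨n, hn⟩ := IsPElem.orderOf_eq h
  rw [hn] at h'
  rcases Nat.eq_zero_or_pos n with rfl | hn0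
  · exact orderOf_eq_one_iff.1 (by simpa using hn)
  · exact absurd (Nat.Coprime.coprime_dvd_left (dvd_pow_self p hn0.ne') h')
      (by rw [Nat.coprime_self]; exact hp.out.ne_one)

omit hq in
theorem dvd_orderOf {x : G} (h : IsPElem p x) (hx : x ≠ 1) : p ∣ orderOf x := by
  by_contra hd
  exact hx (eq_one_of_coprime h ((hp.out.coprime_iff_not_dvd.2 hd).symm))

/-- If there is a third prime then `G` has no normal `q`-complement. -/
theorem not_complement (hM : Mixed q p G) (hpq : p ≠ q) {r : ℕ} (hr : r.Prime) (hrp : r ≠ p) (hrq : r ≠ q)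
    (hrG : r ∣ Nat.card G) (hqG : q ∣ Nat.card G) : ¬ Cfsg.HasNormalPComplement q G := by
  rintro ⟨P, N, hN, hc⟩
  haveI := hN
  haveI := Fact.mk hr
  have hNi : N.index = Nat.card P := hc.symm.index_eq_card
  obtain ⟨n, hn⟩ := IsPGroup.iff_card.1 P.isPGroup'
  have hn' : Nat.card P = q ^ n := hn
  have hrN : r ∣ Nat.card N := by
    rw [← hc.card_mul, hn'] at hrG
    exact (hr.dvd_mul.1 hrG).resolve_right fun h => hrq ((Nat.prime_dvd_prime_iff_eq hr hq.out).1 (hr.dvd_of_dvd_pow h))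
  obtain ⟨R⟩ : Nonempty (Sylow r N) := inferInstance
  set R' := (R : Subgroup N).map N.subtype with hR'
  set NR := Subgroup.normalizer (R' : Set G) with hNR
  have hfr : NR ⊔ N = ⊤ := Sylow.normalizer_sup_eq_top R
  have hqNR : q ∣ Nat.card NR := by
    have h1 : N.relIndex NR = N.index := by
      rw [← Subgroup.relIndex_sup_right (H := NR) (K := N), hfr, Subgroup.relIndex_top_right]
    refine dvd_trans ?_ (h1 ▸ Subgroup.relIndex_dvd_card N NR)
    rw [hNi]
    exact P.dvd_card_of_dvd_card hqG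
  obtain ⟨⟨y, hy⟩, hyo⟩ := exists_prime_orderOf_dvd_card' q hqNR
  rw [Subgroup.orderOf_mk] at hyo
  set H := R' ⊔ Subgroup.zpowers y
  have hRc : Nat.card R' = Nat.card R := Subgroup.card_map_of_injective N.subtype_injective
  have h3 : p ∣ Nat.card H := hM.dvd hr hrq
    (hyo ▸ Subgroup.orderOf_dvd_natCard H (Subgroup.mem_sup_right (Subgroup.mem_zpowers y)))
    ((hRc ▸ R.dvd_card_of_dvd_card hrN).trans (Subgroup.card_dvd_of_le le_sup_left))
  have h4 := h3.trans (dvd_card_sup hy)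
  obtain ⟨k, hk⟩ := IsPGroup.iff_card.1 R.isPGroup'
  have hk' : Nat.card R = r ^ k := hk
  rw [hyo, hRc, hk'] at h4
  rcases hp.out.dvd_mul.1 h4 with h | h
  · exact hrp ((Nat.prime_dvd_prime_iff_eq hp.out hr).1 (hp.out.dvd_of_dvd_pow h)).symm
  · exact hpq ((Nat.prime_dvd_prime_iff_eq hp.out hq.out).1 h)

/-- Failure of a normal `q`-complement gives a `p`-element acting on a `q`-subgroup. -/
theorem exists_auto (hM : Mixed q p G) (hpq : p ≠ q) (h : ¬ Cfsg.HasNormalPComplement q G) :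
    ∃ (V : Subgroup G) (g : G), IsPGroup q V ∧ g ∈ Subgroup.normalizer (V : Set G) ∧
      g ∉ Subgroup.centralizer (V : Set G) ∧ IsPElem p g := by
  have h' : ¬ CfsgLib.Transfer.LocallyTrivial q G := fun h' => h (CfsgLib.Transfer.frobenius_normal_complement h')
  simp only [CfsgLib.Transfer.LocallyTrivial, not_forall] at h'
  obtain ⟨V, hV, g, hg, hgo, hgc⟩ := h'
  obtain ⟨s, hs, k, hks, hkc⟩ := CfsgLib.MaxCent.exists_part hgc
  haveI := Fact.mk hs
  refine ⟨V, g ^ k, hV, pow_mem hg k, hkc, ?_⟩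
  suffices s = p by rw [← this]; exact hks
  by_contra hsp
  have hx1 : g ^ k ≠ 1 := fun e => hkc (e ▸ one_mem _)
  have hsq : s ≠ q := fun e => by
    subst e
    exact hx1 (eq_one_of_coprime hks (Nat.Coprime.coprime_dvd_left (orderOf_pow_dvd k) hgo))
  obtain ⟨n, hn⟩ := IsPGroup.iff_card.1 hV
  have hn0 : n ≠ 0 := by
    rintro rfl
    refine hkc (Subgroup.mem_centralizer_iff.2 fun v hv => ?_)
    rw [pow_zero] at hn
    rw [Subgroup.mem_bot.1 ((Subgroup.card_eq_one.1 hn) ▸ hv : v ∈ (⊥ : Subgroup G))]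
    simp
  obtain ⟨m, hm⟩ := IsPElem.orderOf_eq hks
  set H := V ⊔ Subgroup.zpowers (g ^ k)
  have h3 : p ∣ Nat.card H := hM.dvd hs hsq
    (((dvd_pow_self q hn0).trans hn.symm.dvd).trans (Subgroup.card_dvd_of_le le_sup_left))
    ((dvd_orderOf hks hx1).trans (Subgroup.orderOf_dvd_natCard H (Subgroup.mem_sup_right (Subgroup.mem_zpowers _))))
  have h4 := h3.trans (dvd_card_sup (pow_mem hg k))
  rw [hn, hm] at h4
  rcases hp.out.dvd_mul.1 h4 with h | h
  · exact hpq ((Nat.prime_dvd_prime_iff_eq hp.out hq.out).1 (hp.out.dvd_of_dvd_pow h))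
  · exact hsp ((Nat.prime_dvd_prime_iff_eq hp.out hs).1 (hp.out.dvd_of_dvd_pow h)).symm

/-- A `p`-element acting nontrivially on a `q`-group `V` has `p < |V|`, with transitivity when `|V| = p + 1`. -/
theorem auto_bound (hpq : p ≠ q) {V : Subgroup G} (hV : IsPGroup q V) {g : G}
    (hg : g ∈ Subgroup.normalizer (V : Set G)) (hgc : g ∉ Subgroup.centralizer (V : Set G)) (hgp : IsPElem p g) :
    p < Nat.card V ∧ (Nat.card V = p + 1 → ∀ v ∈ V, ∀ w ∈ V, v ≠ 1 → w ≠ 1 →
      ∃ x ∈ Subgroup.zpowers g, w = x * v * x⁻¹) := by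
  classical
  set Z : Subgroup (Subgroup.normalizer (V : Set G)) := Subgroup.zpowers ⟨g, hg⟩ with hZ
  letI : MulAction Z V := MulAction.compHom V (V.normalizerMonoidHom.comp Z.subtype)
  have hsmul : ∀ (z : Z) (v : V), ((z • v : V) : G) = ((z : Subgroup.normalizer (V : Set G)) : G) * v *
      ((z : Subgroup.normalizer (V : Set G)) : G)⁻¹ := fun _ _ => rfl
  have hZp : IsPGroup p Z := by
    obtain ⟨n, hn⟩ := IsPElem.orderOf_eq hgp
    exact IsPGroup.of_card (n := n) (by rw [hZ, Nat.card_zpowers, Subgroup.orderOf_mk, hn])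
  set F : Subgroup G := V ⊓ CfsgLib.MaxCent.cent g with hF
  have hfix : ∀ v : V, v ∈ MulAction.fixedPoints Z V ↔ (v : G) ∈ F := by
    intro v
    rw [MulAction.mem_fixedPoints]
    constructor
    · intro h
      refine ⟨v.2, CfsgLib.MaxCent.mem_cent.2 ?_⟩
      have h2 := congrArg Subtype.val (h ⟨⟨g, hg⟩, Subgroup.mem_zpowers _⟩)
      rw [hsmul] at h2
      exact (mul_inv_eq_iff_eq_mul.1 h2).symm
    · intro h z
      apply Subtype.ext
      rw [hsmul]
      obtain ⟨i, hi⟩ := Subgroup.mem_zpowers_iff.1 z.2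
      have hc : Commute g (v : G) := (CfsgLib.MaxCent.mem_cent.1 h.2).symm
      have hz : ((z : Subgroup.normalizer (V : Set G)) : G) = g ^ i := by rw [← hi]; simp
      rw [hz, (hc.zpow_left i).eq, mul_inv_cancel_right]
  have hfc : Nat.card (MulAction.fixedPoints Z V) = Nat.card F :=
    Nat.card_congr ((Equiv.subtypeEquivRight hfix).trans
      (Equiv.subtypeSubtypeEquivSubtype (p := fun x => x ∈ V) (q := fun x => x ∈ F) fun h => h.1))
  have hmod := hZp.card_modEq_card_fixedPoints V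
  rw [hfc] at hmod
  have hne : F ≠ V := by
    intro e
    refine hgc (Subgroup.mem_centralizer_iff.2 fun v hv => ?_)
    have : v ∈ F := e.symm ▸ hv
    exact CfsgLib.MaxCent.mem_cent.1 this.2
  have hle : F ≤ V := inf_le_left
  obtain ⟨i, hi⟩ := Subgroup.card_dvd_of_le hle
  have hi2 : 2 ≤ i := by
    rcases Nat.lt_or_ge i 2 with h | h
    · interval_cases i
      · exact absurd hi Nat.card_pos.ne'
      · exact absurd (Subgroup.eq_of_le_of_card_ge hle (by omega)) hne
    · exact h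
  have hFpos : 0 < Nat.card F := Nat.card_pos
  have hdvd : p ∣ Nat.card F * (i - 1) := by
    have h1 := (Nat.modEq_iff_dvd' (Subgroup.card_le_of_le hle)).1 hmod.symm
    rwa [hi, ← Nat.mul_sub_one] at h1
  have hFq : ¬ p ∣ Nat.card F := fun h => by
    obtain ⟨n, hn⟩ := IsPGroup.iff_card.1 (hV.to_le hle)
    exact hpq ((Nat.prime_dvd_prime_iff_eq hp.out hq.out).1 (hp.out.dvd_of_dvd_pow (hn ▸ h)))
  have hpi : p ≤ i - 1 := Nat.le_of_dvd (by omega) ((hp.out.dvd_mul.1 hdvd).resolve_left hFq)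
  have hiV : i ≤ Nat.card V := by rw [hi]; exact Nat.le_mul_of_pos_left i hFpos
  refine ⟨by omega, fun hc v hv w hw hv1 hw1 => ?_⟩
  have hF1 : Nat.card F = 1 := by
    by_contra h
    have : 2 * i ≤ Nat.card F * i := Nat.mul_le_mul_right i (by omega)
    omega
  set v' : V := ⟨v, hv⟩
  obtain ⟨n, hn⟩ := hZp.card_orbit v'
  have horb : MulAction.orbit Z v' ⊆ {u : V | u ≠ 1} := by
    rintro u ⟨z, rfl⟩
    intro e
    have h1 := congrArg Subtype.val e
    rw [hsmul, Subgroup.coe_one] at h1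
    exact hv1 (conj_eq_one_iff.1 h1)
  have hn0 : n ≠ 0 := by
    rintro rfl
    rw [pow_zero, Nat.card_eq_one_iff_unique] at hn
    have h2 : (v' : G) ∈ F := (hfix v').1 fun z =>
      congrArg Subtype.val (hn.1.elim ⟨z • v', MulAction.mem_orbit v' z⟩ ⟨v', MulAction.mem_orbit_self v'⟩)
    rw [Subgroup.card_eq_one.1 hF1] at h2
    exact hv1 (Subgroup.mem_bot.1 h2)
  have hcne : ({u : V | u ≠ 1}).ncard = p := by
    have : {u : V | u ≠ 1} = ({1} : Set V)ᶜ := rfl
    rw [this, Set.ncard_compl, Set.ncard_singleton, hc]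
    omega
  have hcard : (MulAction.orbit Z v').ncard = p ^ n := by rw [← Nat.card_coe_set_eq]; exact hn
  have heq : MulAction.orbit Z v' = {u : V | u ≠ 1} := by
    refine Set.eq_of_subset_of_ncard_le horb ?_ (Set.toFinite _)
    rw [hcne, hcard]
    exact Nat.le_self_pow hn0 p
  obtain ⟨z, hz⟩ := (heq.ge (show (⟨w, hw⟩ : V) ∈ {u : V | u ≠ 1} from fun e => hw1 (congrArg Subtype.val e)) :
    (⟨w, hw⟩ : V) ∈ MulAction.orbit Z v')
  refine ⟨((z : Subgroup.normalizer (V : Set G)) : G), ?_, ?_⟩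
  · obtain ⟨j, hj⟩ := Subgroup.mem_zpowers_iff.1 z.2
    exact Subgroup.mem_zpowers_iff.2 ⟨j, by rw [← hj]; simp⟩
  · rw [← hsmul z v']
    exact (congrArg Subtype.val hz).symm

end CfsgLib.TwoPrime
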