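import Mathlib
import Cfsg.Agent.TwoPrime.Basic
import Cfsg.Agent.Transfer.AbelianSylow
import Cfsg.Agent.Subnormal.BaerSuzuki
import Cfsg.Agent.CharBasics.Burnside

/-!
The configuration `|G|_2 = p + 1` with abelian Sylow `p`-subgroups and a third prime divisor.
-/

set_option autoImplicit false
set_option linter.style.haveILetI false
set_option linter.unusedSectionVars false

namespace CfsgLib.TwoPrime

open CfsgLib.MaxCent (IsPElem cent mem_cent)
open scoped Pointwise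

variable {G : Type*} [Group G] [Finite G] {p : ℕ} [hp : Fact p.Prime]

/-- The hypotheses of the configuration. -/
structure Cfg (p : ℕ) (G : Type*) [Group G] : Prop where
  mixed : Mixed 2 p G
  ab : AbP p G
  card_two : 2 ^ (Nat.card G).factorization 2 = p + 1
  ne_two : p ≠ 2
  dvd : p ∣ Nat.card G
  third : ∃ r, r.Prime ∧ r ∣ Nat.card G ∧ r ≠ p ∧ r ≠ 2
  small : ∀ H : Subgroup G, H ≠ ⊤ → 2 ∣ Nat.card H → ∀ s : ℕ, s.Prime → s ∣ Nat.card H → s = p ∨ s = 2

/-- Sylow `2`-subgroups, described by their order. -/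
def Full (p : ℕ) (Q : Subgroup G) : Prop := IsPGroup 2 Q ∧ Nat.card Q = p + 1

theorem pelem_mem_sylow {P : Sylow p G} {x : G} (hx : IsPElem p x)
    (hn : x ∈ Subgroup.normalizer ((P : Subgroup G) : Set G)) : x ∈ (P : Subgroup G) := by
  obtain ⟨n, hn'⟩ := IsPElem.orderOf_eq hx
  have hg : IsPGroup p (Subgroup.zpowers x) := IsPGroup.of_card (n := n) (by rw [Nat.card_zpowers, hn'])
  have h1 : (Subgroup.zpowers x ⊔ (P : Subgroup G) : Subgroup G) = P :=
    P.3 (hg.to_sup_of_normal_right' P.isPGroup' (Subgroup.zpowers_le.mpr hn)) le_sup_right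
  exact h1 ▸ Subgroup.mem_sup_left (Subgroup.mem_zpowers x)

theorem isPElem_of_mem {H : Subgroup G} (hH : IsPGroup p H) {x : G} (hx : x ∈ H) : IsPElem p x := by
  obtain ⟨n, hn⟩ := hH ⟨x, hx⟩
  exact ⟨n, by simpa [Subtype.ext_iff] using hn⟩

theorem exists_order_p {x : G} (hx : IsPElem p x) (h1 : x ≠ 1) : ∃ k : ℕ, orderOf (x ^ k) = p := by
  obtain ⟨n, hn⟩ := IsPElem.orderOf_eq hx
  exact ⟨_, orderOf_pow_orderOf_div (orderOf_pos x).ne' (dvd_orderOf hx h1)⟩

theorem exists_sylow_mem {x : G} (hx : IsPElem p x) : ∃ P : Sylow p G, x ∈ (P : Subgroup G) := by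
  obtain ⟨n, hn⟩ := IsPElem.orderOf_eq hx
  obtain ⟨P, hP⟩ := (IsPGroup.of_card (p := p) (G := Subgroup.zpowers x) (n := n)
    (by rw [Nat.card_zpowers, hn])).exists_le_sylow
  exact ⟨P, hP (Subgroup.mem_zpowers x)⟩

theorem mem_two_and_pelem (hp2 : p ≠ 2) {x : G} (h : IsPElem p x) (h2 : IsPElem 2 x) : x = 1 := by
  haveI := Fact.mk Nat.prime_two
  obtain ⟨n, hn⟩ := IsPElem.orderOf_eq h2
  refine eq_one_of_coprime h ?_
  rw [hn]
  exact (((Nat.coprime_primes hp.out Nat.prime_two).2 hp2).symm).pow_left n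

theorem eq_one_of_sq (hp2 : p ≠ 2) {a : G} (h : IsPElem p a) (h2 : a * a = 1) : a = 1 :=
  mem_two_and_pelem hp2 h ⟨1, by rw [pow_one, pow_two]; exact h2⟩

theorem inv_spec {t : G} (ht : orderOf t = 2) : t * t = 1 ∧ t⁻¹ = t ∧ t ≠ 1 := by
  have h := pow_orderOf_eq_one t
  rw [ht, pow_two] at h
  exact ⟨h, inv_eq_of_mul_eq_one_right h, fun e => by rw [e, orderOf_one] at ht; omega⟩

theorem orderOf_inv_conj {t : G} (ht : orderOf t = 2) (h : G) : orderOf (h * t * h⁻¹) = 2 := by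
  rw [← ht]; exact MulEquiv.orderOf_eq (MulAut.conj h) t

theorem IsPElem.pow' {x : G} (h : IsPElem p x) (k : ℕ) : IsPElem p (x ^ k) := by
  obtain ⟨n, hn⟩ := h
  exact ⟨n, by rw [← pow_mul, mul_comm, pow_mul, hn, one_pow]⟩

theorem le_normalizer_of_normal_map {H : Subgroup G} (K : Subgroup H) [K.Normal] :
    H ≤ Subgroup.normalizer ((K.map H.subtype : Subgroup G) : Set G) := by
  have h := Subgroup.le_normalizer_map (H := K) H.subtype
  rw [Subgroup.normalizer_eq_top, ← MonoidHom.range_eq_map, Subgroup.range_subtype] at h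
  exact h

namespace Cfg

variable (hC : Cfg p G)
include hC

theorem four_le : 4 ≤ p + 1 := by
  have := hp.out.two_le
  have := hC.ne_two
  omega

theorem even : 2 ∣ Nat.card G := by
  haveI := Fact.mk Nat.prime_two
  refine dvd_trans ?_ (Nat.ordProj_dvd (Nat.card G) 2)
  rcases Nat.eq_zero_or_pos ((Nat.card G).factorization 2) with h | h
  · have := hC.card_two; rw [h, pow_zero] at this; have := hp.out.pos; omega
  · exact dvd_pow_self 2 h.ne'

theorem card_le_two {V : Subgroup G} (hV : IsPGroup 2 V) : Nat.card V ≤ p + 1 := by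
  haveI := Fact.mk Nat.prime_two
  obtain ⟨P, hP⟩ := hV.exists_le_sylow
  have := Subgroup.card_le_of_le hP
  rwa [Sylow.card_eq_multiplicity, hC.card_two] at this

theorem exists_full {V : Subgroup G} (hV : IsPGroup 2 V) : ∃ Q : Subgroup G, Full p Q ∧ V ≤ Q := by
  haveI := Fact.mk Nat.prime_two
  obtain ⟨P, hP⟩ := hV.exists_le_sylow
  exact ⟨P, ⟨P.isPGroup', by rw [Sylow.card_eq_multiplicity, hC.card_two]⟩, hP⟩

theorem full_eq_of_le {Q V : Subgroup G} (hQ : Full p Q) (hV : IsPGroup 2 V) (h : Q ≤ V) : Q = V :=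
  Subgroup.eq_of_le_of_card_ge h (by rw [hQ.2]; exact hC.card_le_two hV)

theorem mem_full {Q : Subgroup G} (hQ : Full p Q) {t : G} (ht : IsPElem 2 t)
    (hn : t ∈ Subgroup.normalizer (Q : Set G)) : t ∈ Q := by
  haveI := Fact.mk Nat.prime_two
  obtain ⟨n, hn'⟩ := IsPElem.orderOf_eq ht
  have hg : IsPGroup 2 (Subgroup.zpowers t) := IsPGroup.of_card (n := n) (by rw [Nat.card_zpowers, hn'])
  rw [hC.full_eq_of_le hQ (hg.to_sup_of_normal_right' hQ.1 (Subgroup.zpowers_le.mpr hn)) le_sup_right]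
  exact Subgroup.mem_sup_left (Subgroup.mem_zpowers t)

theorem full_conj {Q Q' : Subgroup G} (hQ : Full p Q) (hQ' : Full p Q') : ∃ h : G, Q' = MulAut.conj h • Q := by
  haveI := Fact.mk Nat.prime_two
  let P := Sylow.ofCard Q (by rw [hQ.2, hC.card_two])
  let P' := Sylow.ofCard Q' (by rw [hQ'.2, hC.card_two])
  obtain ⟨h, hh⟩ := MulAction.exists_smul_eq G P P'
  exact ⟨h, (congrArg (fun S : Sylow 2 G => (S : Subgroup G)) hh).symm⟩

theorem auto_full {V : Subgroup G} (hV : IsPGroup 2 V) {g : G} (hg : g ∈ Subgroup.normalizer (V : Set G))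
    (hgc : g ∉ Subgroup.centralizer (V : Set G)) (hgp : IsPElem p g) : Full p V := by
  haveI := Fact.mk Nat.prime_two
  exact ⟨hV, le_antisymm (hC.card_le_two hV) (auto_bound hC.ne_two hV hg hgc hgp).1⟩

theorem full_auto {Q : Subgroup G} (hQ : Full p Q) :
    ∃ g : G, g ∈ Subgroup.normalizer (Q : Set G) ∧ g ∉ Subgroup.centralizer (Q : Set G) ∧ IsPElem p g := by
  haveI := Fact.mk Nat.prime_two
  obtain ⟨r, hr, hrG, hrp, hr2⟩ := hC.third
  obtain ⟨V, g, hV, hg, hgc, hgp⟩ :=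
    exists_auto hC.mixed hC.ne_two (not_complement hC.mixed hC.ne_two hr hrp hr2 hrG hC.even)
  obtain ⟨h, rfl⟩ := hC.full_conj (hC.auto_full hV hg hgc hgp) hQ
  refine ⟨h * g * h⁻¹, Subgroup.mem_normalizer_iff.2 fun n => ?_, fun hc => hgc ?_, hgp.conj h⟩
  · rw [CfsgLib.MaxCent.mem_conj_smul_iff, CfsgLib.MaxCent.mem_conj_smul_iff,
      Subgroup.mem_normalizer_iff.1 hg (h⁻¹ * n * h)]
    simp [mul_assoc]
  · refine Subgroup.mem_centralizer_iff.2 fun v hv => ?_
    have h1 := Subgroup.mem_centralizer_iff.1 hc (h * v * h⁻¹)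
      (CfsgLib.MaxCent.mem_conj_smul_iff.2 (by simpa [mul_assoc] using hv))
    exact mul_left_cancel (a := h) (mul_right_cancel (b := h⁻¹) (by simpa [mul_assoc] using h1))

theorem full_trans {Q : Subgroup G} (hQ : Full p Q) {g : G} (hg : g ∈ Subgroup.normalizer (Q : Set G))
    (hgc : g ∉ Subgroup.centralizer (Q : Set G)) (hgp : IsPElem p g) {v w : G} (hv : v ∈ Q) (hw : w ∈ Q)
    (hv1 : v ≠ 1) (hw1 : w ≠ 1) : ∃ x ∈ Subgroup.zpowers g, w = x * v * x⁻¹ := by
  haveI := Fact.mk Nat.prime_two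
  exact (auto_bound hC.ne_two hQ.1 hg hgc hgp).2 hQ.2 v hv w hw hv1 hw1

theorem full_trans' {Q : Subgroup G} (hQ : Full p Q) {v w : G} (hv : v ∈ Q) (hw : w ∈ Q)
    (hv1 : v ≠ 1) (hw1 : w ≠ 1) :
    ∃ x, x ∈ Subgroup.normalizer (Q : Set G) ∧ IsPElem p x ∧ w = x * v * x⁻¹ := by
  obtain ⟨g, hg, hgc, hgp⟩ := hC.full_auto hQ
  obtain ⟨x, hx, he⟩ := hC.full_trans hQ hg hgc hgp hv hw hv1 hw1
  refine ⟨x, Subgroup.zpowers_le.2 hg hx, ?_, he⟩
  obtain ⟨n, hn⟩ := IsPElem.orderOf_eq hgp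
  exact isPElem_of_mem (IsPGroup.of_card (n := n) (by rw [Nat.card_zpowers, hn])) hx

theorem full_sq {Q : Subgroup G} (hQ : Full p Q) {v : G} (hv : v ∈ Q) : v * v = 1 := by
  haveI := Fact.mk Nat.prime_two
  by_cases hv1 : v = 1
  · simp [hv1]
  have h2 : 2 ∣ Nat.card Q := by
    obtain ⟨k, hk⟩ := hp.out.odd_of_ne_two hC.ne_two
    rw [hQ.2, hk]; exact ⟨k + 1, by ring⟩
  obtain ⟨⟨u, hu⟩, huo⟩ := exists_prime_orderOf_dvd_card' 2 h2
  rw [Subgroup.orderOf_mk] at huo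
  obtain ⟨x, -, -, rfl⟩ := hC.full_trans' hQ hu hv (inv_spec huo).2.2 hv1
  calc x * u * x⁻¹ * (x * u * x⁻¹) = x * (u * u) * x⁻¹ := by group
    _ = 1 := by rw [(inv_spec huo).1]; group

theorem full_orderOf {Q : Subgroup G} (hQ : Full p Q) {v : G} (hv : v ∈ Q) (hv1 : v ≠ 1) : orderOf v = 2 :=
  orderOf_eq_prime (by rw [pow_two]; exact hC.full_sq hQ hv) hv1

theorem full_comm {Q : Subgroup G} (hQ : Full p Q) {a b : G} (ha : a ∈ Q) (hb : b ∈ Q) : a * b = b * a := by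
  have h1 : (a * b)⁻¹ = a * b := inv_eq_of_mul_eq_one_right (hC.full_sq hQ (mul_mem ha hb))
  rw [mul_inv_rev, inv_eq_of_mul_eq_one_right (hC.full_sq hQ ha), inv_eq_of_mul_eq_one_right (hC.full_sq hQ hb)] at h1
  exact h1.symm

theorem exists_full_mem {t : G} (ht : orderOf t = 2) : ∃ Q : Subgroup G, Full p Q ∧ t ∈ Q := by
  haveI := Fact.mk Nat.prime_two
  obtain ⟨Q, hQ, hle⟩ := hC.exists_full (V := Subgroup.zpowers t)
    (IsPGroup.of_card (n := 1) (by rw [Nat.card_zpowers, ht, pow_one]))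
  exact ⟨Q, hQ, hle (Subgroup.mem_zpowers t)⟩

theorem inv_conj {t u : G} (ht : orderOf t = 2) (hu : orderOf u = 2) : ∃ h : G, u = h * t * h⁻¹ := by
  obtain ⟨Q, hQ, htQ⟩ := hC.exists_full_mem ht
  obtain ⟨Q', hQ', huQ'⟩ := hC.exists_full_mem hu
  obtain ⟨h, rfl⟩ := hC.full_conj hQ hQ'
  rw [CfsgLib.MaxCent.mem_conj_smul_iff] at huQ'
  have hne : h⁻¹ * u * h ≠ 1 := fun e => (inv_spec hu).2.2 (by
    calc u = h * (h⁻¹ * u * h) * h⁻¹ := by group
      _ = 1 := by rw [e]; group)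
  obtain ⟨x, -, -, hx⟩ := hC.full_trans' hQ htQ huQ' (inv_spec ht).2.2 hne
  exact ⟨h * x, by
    calc u = h * (h⁻¹ * u * h) * h⁻¹ := by group
      _ = _ := by rw [hx]; group⟩

theorem inverts_mul {t u : G} (ht : orderOf t = 2) (hu : orderOf u = 2) :
    t * (t * u) * t⁻¹ = (t * u)⁻¹ ∧ u * (t * u) * u⁻¹ = (t * u)⁻¹ := by
  obtain ⟨ht1, ht2, -⟩ := inv_spec ht
  obtain ⟨hu1, hu2, -⟩ := inv_spec hu
  rw [mul_inv_rev, ht2, hu2]
  refine ⟨?_, ?_⟩
  · rw [← mul_assoc, ht1, one_mul]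
  · rw [mul_assoc, mul_assoc, hu1, mul_one]

theorem inverted_pow {t x : G} (h : t * x * t⁻¹ = x⁻¹) (k : ℕ) : t * x ^ k * t⁻¹ = (x ^ k)⁻¹ := by
  rw [← conj_pow, h, inv_pow]

theorem mem_normalizer_zpowers {t x : G} (ht : orderOf t = 2) (h : t * x * t⁻¹ = x⁻¹) :
    t ∈ Subgroup.normalizer (Subgroup.zpowers x : Set G) := by
  rw [Subgroup.mem_normalizer_iff_map_conj_eq, MonoidHom.map_zpowers]
  show Subgroup.zpowers (t * x * t⁻¹) = _
  rw [h, Subgroup.zpowers_inv]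

/-- An element of odd prime order inverted by an involution has order `p`. -/
theorem inverted_prime {t z : G} {s : ℕ} (hs : s.Prime) (hs2 : s ≠ 2) (ht : orderOf t = 2)
    (hz : orderOf z = s) (h : t * z * t⁻¹ = z⁻¹) : s = p := by
  haveI := Fact.mk Nat.prime_two
  set H := Subgroup.zpowers z ⊔ Subgroup.zpowers t with hH
  have h3 : p ∣ Nat.card H := hC.mixed.dvd hs hs2
    (ht ▸ Subgroup.orderOf_dvd_natCard H (Subgroup.mem_sup_right (Subgroup.mem_zpowers t)))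
    (hz ▸ Subgroup.orderOf_dvd_natCard H (Subgroup.mem_sup_left (Subgroup.mem_zpowers z)))
  have h4 := h3.trans (dvd_card_sup (hC.mem_normalizer_zpowers ht h))
  rw [Nat.card_zpowers, hz, ht] at h4
  rcases hp.out.dvd_mul.1 h4 with h5 | h5
  · exact ((Nat.prime_dvd_prime_iff_eq hp.out hs).1 h5).symm
  · exact absurd ((Nat.prime_dvd_prime_iff_eq hp.out Nat.prime_two).1 h5) hC.ne_two

/-- Two involutions whose product is a `2`-element generate a `2`-group. -/
theorem two_group_of_two_elem {t u : G} (ht : orderOf t = 2) (hu : orderOf u = 2) (h : IsPElem 2 (t * u)) :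
    IsPGroup 2 ↥(Subgroup.closure ({t, u} : Set G)) := by
  haveI := Fact.mk Nat.prime_two
  obtain ⟨n, hn⟩ := IsPElem.orderOf_eq h
  have hmem := hC.mem_normalizer_zpowers ht (hC.inverts_mul ht hu).1
  have hd := dvd_card_sup hmem
  rw [Nat.card_zpowers, hn, ht, ← pow_succ] at hd
  obtain ⟨k, -, hk⟩ := (Nat.dvd_prime_pow Nat.prime_two).1 hd
  refine (IsPGroup.of_card (n := k) hk).to_le ((Subgroup.closure_le _).2 ?_)
  rintro x (rfl | rfl)
  · exact Subgroup.mem_sup_right (Subgroup.mem_zpowers x)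
  · have h1 : t * (t * x) = x := by rw [← mul_assoc, (inv_spec ht).1, one_mul]
    have h2 : t * (t * x) ∈ Subgroup.zpowers (t * x) ⊔ Subgroup.zpowers t :=
      mul_mem (Subgroup.mem_sup_right (Subgroup.mem_zpowers t)) (Subgroup.mem_sup_left (Subgroup.mem_zpowers _))
    rwa [h1] at h2

theorem comm_of_two_elem {t u : G} (ht : orderOf t = 2) (hu : orderOf u = 2) (h : IsPElem 2 (t * u)) :
    t * u = u * t := by
  obtain ⟨Q, hQ, hle⟩ := hC.exists_full (hC.two_group_of_two_elem ht hu h)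
  exact hC.full_comm hQ (hle (Subgroup.subset_closure (Set.mem_insert _ _)))
    (hle (Subgroup.subset_closure (Set.mem_insert_of_mem _ rfl)))

/-- Otherwise some power of order `p` of the product is inverted by both involutions. -/
theorem exists_inverted {t u : G} (ht : orderOf t = 2) (hu : orderOf u = 2) (h : ¬ IsPElem 2 (t * u)) :
    ∃ k : ℕ, orderOf ((t * u) ^ k) = p ∧ t * (t * u) ^ k * t⁻¹ = ((t * u) ^ k)⁻¹ ∧
      u * (t * u) ^ k * u⁻¹ = ((t * u) ^ k)⁻¹ := by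
  obtain ⟨s, hs, hs2, hsd⟩ : ∃ s : ℕ, s.Prime ∧ s ≠ 2 ∧ s ∣ orderOf (t * u) := by
    by_contra hcon
    push Not at hcon
    refine h ⟨_, orderOf_dvd_iff_pow_eq_one.1 (dvd_of_eq (Nat.eq_prime_pow_of_unique_prime_dvd (p := 2) (orderOf_pos _).ne' ?_))⟩
    intro d hd hdd
    by_contra hd2
    exact hcon d hd hd2 hdd
  set k := orderOf (t * u) / s
  have hz : orderOf ((t * u) ^ k) = s := orderOf_pow_orderOf_div (orderOf_pos _).ne' hsd
  have h1 := hC.inverted_pow (hC.inverts_mul ht hu).1 k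
  exact ⟨k, hz.trans (hC.inverted_prime hs hs2 ht hz h1), h1, hC.inverted_pow (hC.inverts_mul ht hu).2 k⟩

theorem not_normal_two {V : Subgroup G} (hV : IsPGroup 2 V) (h1 : V ≠ ⊥) :
    Subgroup.normalizer (V : Set G) ≠ ⊤ := by
  intro htop
  haveI := Fact.mk Nat.prime_two
  obtain ⟨r, hr, hrG, hrp, hr2⟩ := hC.third
  haveI := Fact.mk hr
  obtain ⟨w, hw⟩ := exists_prime_orderOf_dvd_card' r hrG
  obtain ⟨n, hn⟩ := IsPGroup.iff_card.1 hV
  have hn0 : n ≠ 0 := by
    rintro rfl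
    exact h1 (Subgroup.card_eq_one.1 (by rw [hn, pow_zero]))
  set H := V ⊔ Subgroup.zpowers w
  have h3 : p ∣ Nat.card H := hC.mixed.dvd hr hr2
    (((dvd_pow_self 2 hn0).trans hn.symm.dvd).trans (Subgroup.card_dvd_of_le le_sup_left))
    (hw ▸ Subgroup.orderOf_dvd_natCard H (Subgroup.mem_sup_right (Subgroup.mem_zpowers w)))
  have h4 := h3.trans (dvd_card_sup (htop ▸ Subgroup.mem_top w : w ∈ Subgroup.normalizer (V : Set G)))
  rw [hn, hw] at h4
  rcases hp.out.dvd_mul.1 h4 with h5 | h5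
  · exact hC.ne_two ((Nat.prime_dvd_prime_iff_eq hp.out Nat.prime_two).1 (hp.out.dvd_of_dvd_pow h5))
  · exact hrp ((Nat.prime_dvd_prime_iff_eq hp.out hr).1 h5).symm

theorem cent_inv_ne_top {t : G} (ht : orderOf t = 2) : cent t ≠ ⊤ := by
  haveI := Fact.mk Nat.prime_two
  intro htop
  refine hC.not_normal_two (V := Subgroup.zpowers t) (IsPGroup.of_card (n := 1) (by rw [Nat.card_zpowers, ht, pow_one]))
    (by rw [Ne, Subgroup.zpowers_eq_bot]; exact (inv_spec ht).2.2) (eq_top_iff.2 fun g _ => ?_)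
  rw [Subgroup.mem_normalizer_iff_map_conj_eq, MonoidHom.map_zpowers]
  show Subgroup.zpowers (g * t * g⁻¹) = _
  rw [mem_cent.1 (htop ▸ Subgroup.mem_top g : g ∈ cent t), mul_inv_cancel_right]

theorem cent_pelem_ne_top {y : G} (hy : IsPElem p y) (hy1 : y ≠ 1) : cent y ≠ ⊤ := by
  intro htop
  obtain ⟨P, hyP⟩ := exists_sylow_mem hy
  have hPc : IsMulCommutative (P : Subgroup G) :=
    ⟨⟨fun a b => Subtype.ext (hC.ab.comm P.isPGroup' a.2 b.2)⟩⟩
  have hyR : y ∉ Cfsg.pResidual p G := by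
    intro hR
    have h1 : y ∈ ⁅(P : Subgroup G), Subgroup.normalizer ((P : Subgroup G) : Set G)⁆ :=
      CfsgLib.Transfer.abelian_inf_pResidual P hPc ▸ ⟨hyP, hR⟩
    have h2 : y ∈ (P : Subgroup G) ⊓ Subgroup.centralizer (Subgroup.normalizer ((P : Subgroup G) : Set G) : Set G) :=
      ⟨hyP, Subgroup.mem_centralizer_iff.2 fun g _ => mem_cent.1 (htop ▸ Subgroup.mem_top g : g ∈ cent y)⟩
    exact hy1 (Subgroup.mem_bot.1 ((CfsgLib.Transfer.abelian_decomp P hPc).1 ▸ ⟨h2, h1⟩))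
  obtain ⟨r, hr, hrG, hrp, hr2⟩ := hC.third
  haveI := Fact.mk hr
  haveI := Fact.mk Nat.prime_two
  obtain ⟨w, hw⟩ := exists_prime_orderOf_dvd_card' r hrG
  obtain ⟨t, ht⟩ := exists_prime_orderOf_dvd_card' 2 hC.even
  have hwR : w ∈ Cfsg.pResidual p G :=
    CfsgLib.Transfer.mem_pResidual_of_coprime (hw ▸ (Nat.coprime_primes hr hp.out).2 hrp)
  have htR : t ∈ Cfsg.pResidual p G :=
    CfsgLib.Transfer.mem_pResidual_of_coprime (ht ▸ (Nat.coprime_primes Nat.prime_two hp.out).2 hC.ne_two.symm)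
  rcases hC.small _ (fun h => hyR (by rw [h]; exact Subgroup.mem_top y)) (ht ▸ Subgroup.orderOf_dvd_natCard _ htR) r hr
    (hw ▸ Subgroup.orderOf_dvd_natCard _ hwR) with h | h
  · exact hrp h
  · exact hr2 h

/-- A proper subgroup of even order with a normal `2`-complement: its `p`-elements form a `p`-group. -/
theorem exists_kernel {H : Subgroup G} (hH : H ≠ ⊤) (h2 : 2 ∣ Nat.card H)
    (hc : Cfsg.HasNormalPComplement 2 H) :
    ∃ K : Subgroup G, IsPGroup p K ∧ K ≤ H ∧ H ≤ Subgroup.normalizer (K : Set G) ∧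
      (∀ x ∈ H, IsPElem p x → x ∈ K) ∧ (K = ⊥ → IsPGroup 2 H) := by
  haveI := Fact.mk Nat.prime_two
  obtain ⟨S, N, hN, hc⟩ := hc
  haveI := hN
  obtain ⟨n, hn⟩ := IsPGroup.iff_card.1 S.isPGroup'
  have hn' : Nat.card S = 2 ^ n := hn
  have hNi : N.index = 2 ^ n := hc.symm.index_eq_card.trans hn'
  have hN2 : ¬ 2 ∣ Nat.card N := by
    intro h
    have h1 : Nat.card N = S.index := hc.index_eq_card.symm
    exact S.not_dvd_index (h1 ▸ h)
  have hNp : IsPGroup p N := by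
    refine IsPGroup.of_card (n := _) (Nat.eq_prime_pow_of_unique_prime_dvd Nat.card_pos.ne' fun {d} hd hdd => ?_)
    rcases hC.small H hH h2 d hd (hdd.trans (N.card_subgroup_dvd_card)) with h | h
    · exact h
    · exact absurd (h ▸ hdd) hN2
  refine ⟨N.map H.subtype, hNp.map _, Subgroup.map_subtype_le N, le_normalizer_of_normal_map N,
    fun x hx hxp => ⟨⟨x, hx⟩, ?_, rfl⟩, fun hK => ?_⟩
  · obtain ⟨m, hm⟩ := hxp
    refine CfsgLib.MaxCent.mem_of_two_pows (m := p ^ m) (n := N.index) ?_ ?_ (N.pow_index_mem _)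
    · rw [hNi]; exact Nat.Coprime.pow m n ((Nat.coprime_primes hp.out Nat.prime_two).2 hC.ne_two)
    · have : (⟨x, hx⟩ : H) ^ p ^ m = 1 := Subtype.ext (by simpa using hm)
      rw [this]; exact one_mem _
  · have hNb : N = ⊥ := by
      rw [← Subgroup.map_eq_bot_iff_of_injective N H.subtype_injective]; exact hK
    exact IsPGroup.of_card (n := n) (by rw [← hNi, hNb, Subgroup.index_bot])

/-- A subgroup without normal `2`-complement contains a full `2`-group and an element acting on it. -/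
theorem exists_full_in {H : Subgroup G} (hc : ¬ Cfsg.HasNormalPComplement 2 H) :
    ∃ (Q : Subgroup G) (x : G), Full p Q ∧ Q ≤ H ∧ x ∈ H ∧ x ∈ Subgroup.normalizer (Q : Set G) ∧
      x ∉ Subgroup.centralizer (Q : Set G) ∧ IsPElem p x := by
  haveI := Fact.mk Nat.prime_two
  obtain ⟨V, g, hV, hg, hgc, hgp⟩ := exists_auto (hC.mixed.sub H) hC.ne_two hc
  have h1 : (g : G) ∈ Subgroup.normalizer ((V.map H.subtype : Subgroup G) : Set G) :=
    Subgroup.le_normalizer_map H.subtype ⟨g, hg, rfl⟩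
  have h2 : (g : G) ∉ Subgroup.centralizer ((V.map H.subtype : Subgroup G) : Set G) := by
    refine fun h => hgc (Subgroup.mem_centralizer_iff.2 fun v hv => Subtype.ext ?_)
    exact Subgroup.mem_centralizer_iff.1 h (v : G) (Subgroup.mem_map_of_mem H.subtype hv)
  have h3 : IsPElem p (g : G) := by
    obtain ⟨n, hn⟩ := hgp
    exact ⟨n, by simpa [Subtype.ext_iff] using hn⟩
  exact ⟨_, g, hC.auto_full (hV.map _) h1 h2 h3, Subgroup.map_subtype_le _, g.2, h1, h2, h3⟩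

theorem cent_inv_complement {t : G} (ht : orderOf t = 2) : Cfsg.HasNormalPComplement 2 (cent t) := by
  by_contra hc
  obtain ⟨Q, x, hQ, hQt, hxt, hx, hxc, hxp⟩ := hC.exists_full_in hc
  obtain ⟨-, -, ht1⟩ := inv_spec ht
  have htQ : t ∈ Q := hC.mem_full hQ ⟨1, by rw [pow_one, pow_two]; exact (inv_spec ht).1⟩
    (Subgroup.centralizer_le_normalizer _ (Subgroup.mem_centralizer_iff.2 fun v hv => mem_cent.1 (hQt hv)))
  refine hxc (Subgroup.mem_centralizer_iff.2 fun w hw => ?_)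
  by_cases hw1 : w = 1
  · simp [hw1]
  obtain ⟨z, hz, rfl⟩ := hC.full_trans hQ hx hxc hxp htQ hw ht1 hw1
  rw [mem_cent.1 (Subgroup.zpowers_le.2 hxt hz : z ∈ cent t), mul_inv_cancel_right]
  exact (mem_cent.1 hxt).symm

/-- The `p`-elements centralising an involution form an abelian group normalised by its centraliser. -/
theorem exists_inv_kernel {t : G} (ht : orderOf t = 2) :
    ∃ K : Subgroup G, IsPGroup p K ∧ K ≤ cent t ∧ cent t ≤ Subgroup.normalizer (K : Set G) ∧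
      (∀ x ∈ cent t, IsPElem p x → x ∈ K) ∧ (K = ⊥ → IsPGroup 2 (cent t)) :=
  hC.exists_kernel (hC.cent_inv_ne_top ht)
    (ht ▸ Subgroup.orderOf_dvd_natCard _ (CfsgLib.MaxCent.self_mem_cent t)) (hC.cent_inv_complement ht)

theorem comm_of_cent {t a b : G} (ht : orderOf t = 2) (ha : a ∈ cent t) (hb : b ∈ cent t) (hap : IsPElem p a)
    (hbp : IsPElem p b) : a * b = b * a := by
  obtain ⟨K, hK, -, -, hKm, -⟩ := hC.exists_inv_kernel ht
  exact hC.ab.comm hK (hKm a ha hap) (hKm b hb hbp)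

end Cfg

end CfsgLib.TwoPrime
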