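import Mathlib
import Cfsg.Agent.TwoPrime.Cfg
import Cfsg.Agent.Components.Balance
import Cfsg.Agent.Hall.Fitting

/-!
No nontrivial `p`-element centralises a Sylow `2`-subgroup.
-/

set_option autoImplicit false
set_option linter.style.haveILetI false
set_option linter.unusedSectionVars false

namespace CfsgLib.TwoPrime

open CfsgLib.MaxCent (IsPElem cent mem_cent)
open scoped Pointwise

variable {G : Type*} [Group G] [Finite G] {p : ℕ} [hp : Fact p.Prime]

theorem mem_inf_bot (hp2 : p ≠ 2) {Q K : Subgroup G} (hQ : IsPGroup 2 Q) (hK : IsPGroup p K) {x : G}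
    (h1 : x ∈ Q) (h2 : x ∈ K) : x = 1 := by
  haveI := Fact.mk Nat.prime_two
  exact mem_two_and_pelem hp2 (isPElem_of_mem hK h2) (isPElem_of_mem hQ h1)

namespace Cfg

variable (hC : Cfg p G)
include hC

theorem pelem_auto {Q : Subgroup G} (hQ : Full p Q) {y : G} (hy : IsPElem p y)
    (hyn : y ∈ Subgroup.normalizer (Q : Set G)) :
    ∃ P : Sylow p G, y ∈ (P : Subgroup G) ∧ ∃ x ∈ (P : Subgroup G), x ∈ Subgroup.normalizer (Q : Set G) ∧
      x ∉ Subgroup.centralizer (Q : Set G) := by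
  set N := Subgroup.normalizer (Q : Set G) with hN
  have hy' : IsPElem p (⟨y, hyn⟩ : N) := by
    obtain ⟨n, hn⟩ := hy
    exact ⟨n, Subtype.ext (by simpa using hn)⟩
  obtain ⟨P0, hP0⟩ := exists_sylow_mem hy'
  obtain ⟨P, hP⟩ := (P0.isPGroup'.map N.subtype).exists_le_sylow
  refine ⟨P, hP ⟨⟨y, hyn⟩, hP0, rfl⟩, ?_⟩
  by_contra hcon
  push Not at hcon
  set CN : Subgroup N := (Subgroup.centralizer (Q : Set G)).subgroupOf N with hCN
  haveI : CN.Normal := by
    rw [hCN, hN, ← Subgroup.normalizerMonoidHom_ker]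
    exact MonoidHom.normal_ker _
  obtain ⟨g, hg, hgc, hgp⟩ := hC.full_auto hQ
  have hg' : IsPElem p (⟨g, hg⟩ : N) := by
    obtain ⟨n, hn⟩ := hgp
    exact ⟨n, Subtype.ext (by simpa using hn)⟩
  obtain ⟨P1, hP1⟩ := exists_sylow_mem hg'
  obtain ⟨h, rfl⟩ := MulAction.exists_smul_eq N P0 P1
  have h1 : (P0 : Subgroup N) ≤ CN := fun u hu =>
    Subgroup.mem_subgroupOf.2 (hcon u (hP ⟨u, hu, rfl⟩) u.2)
  have h2 : h⁻¹ * ⟨g, hg⟩ * h ∈ (P0 : Subgroup N) := by
    rw [← CfsgLib.MaxCent.mem_conj_smul_iff]; exact hP1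
  have h3 := (inferInstance : CN.Normal).conj_mem _ (h1 h2) h
  rw [show h * (h⁻¹ * (⟨g, hg⟩ : N) * h) * h⁻¹ = ⟨g, hg⟩ by group] at h3
  exact hgc (Subgroup.mem_subgroupOf.1 h3)

theorem cent_le_normalizer {Q : Subgroup G} (hQ : Full p Q) {y : G} (hy : IsPElem p y) (hy1 : y ≠ 1)
    (hyc : y ∈ Subgroup.centralizer (Q : Set G)) : cent y ≤ Subgroup.normalizer (Q : Set G) := by
  haveI := Fact.mk Nat.prime_two
  obtain ⟨P, hyP, x, hxP, hxn, hxc⟩ := hC.pelem_auto hQ hy (Subgroup.centralizer_le_normalizer _ hyc)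
  have hxp : IsPElem p x := isPElem_of_mem P.isPGroup' hxP
  set H := cent y with hH
  have hQH : Q ≤ H := fun v hv => mem_cent.2 (Subgroup.mem_centralizer_iff.1 hyc v hv)
  have hxH : x ∈ H := mem_cent.2 (hC.ab.comm P.isPGroup' hxP hyP)
  have hQ2 : 2 ∣ Nat.card H := by
    refine dvd_trans ?_ (Subgroup.card_dvd_of_le hQH)
    obtain ⟨k, hk⟩ := hp.out.odd_of_ne_two hC.ne_two
    rw [hQ.2, hk]; exact ⟨k + 1, by ring⟩
  have hpr : ∀ r : ℕ, r.Prime → r ∣ Nat.card H → r = p ∨ r = 2 := hC.small H (hC.cent_pelem_ne_top hy hy1) hQ2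
  haveI : Group.IsSolvable H := CfsgLib.CharBasics.isSolvable_two_primes p 2 hpr
  set Q' := Q.subgroupOf H with hQ'
  set x' : H := ⟨x, hxH⟩ with hx'
  have hx'p : IsPElem p x' := by
    obtain ⟨n, hn⟩ := hxp
    exact ⟨n, Subtype.ext (by simpa using hn)⟩
  set O := Cfsg.pCore p H with hO
  set W := Cfsg.pCore 2 H with hW
  haveI : O.Normal := CfsgLib.Subnormal.normal_pCore p
  haveI : W.Normal := CfsgLib.Subnormal.normal_pCore 2
  have hWp : IsPGroup 2 W := CfsgLib.Subnormal.isPGroup_pCore 2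
  have hOp : IsPGroup p O := CfsgLib.Subnormal.isPGroup_pCore p
  have hW1 : W ≠ ⊥ := by
    intro hW0
    have hpp : Cfsg.pPrimeCore p H = ⊥ := by
      rw [eq_bot_iff, ← hW0]
      refine CfsgLib.Components.le_pCore
        (@Subgroup.normal_of_characteristic _ _ _ (CfsgLib.Components.pPrimeCore_characteristic (G := H) p))
        (IsPGroup.of_card (n := _) (Nat.eq_prime_pow_of_unique_prime_dvd Nat.card_pos.ne' fun {d} hd hdd => ?_))
      rcases hpr d hd (hdd.trans (Subgroup.card_subgroup_dvd_card _)) with h | h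
      · exfalso
        subst h
        exact hd.ne_one (Nat.dvd_one.1 ((CfsgLib.Components.pPrimeCore_coprime (G := H) d).symm.gcd_eq_one ▸ Nat.dvd_gcd dvd_rfl hdd))
      · exact h
    have hFO : Cfsg.fittingSubgroup H ≤ O := CfsgLib.Components.fitting_le_pCore hpp
    haveI : (Subgroup.centralizer (O : Set H)).Normal := Subgroup.normal_centralizer
    have hxL : x' ∈ Subgroup.centralizer (O : Set H) := by
      obtain ⟨n, hn⟩ := IsPElem.orderOf_eq hx'p
      have hg : IsPGroup p (Subgroup.zpowers x') := IsPGroup.of_card (n := n) (by rw [Nat.card_zpowers, hn])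
      have hsup := hOp.to_sup_of_normal_left hg
      refine Subgroup.mem_centralizer_iff.2 fun o ho => ?_
      exact (hC.ab.sub H).comm hsup (Subgroup.mem_sup_left ho) (Subgroup.mem_sup_right (Subgroup.mem_zpowers x'))
    have hQL : Q' ≤ Subgroup.centralizer (O : Set H) := by
      intro v hv
      by_cases hv1 : v = 1
      · exact hv1 ▸ one_mem _
      have hvQ : (v : G) ∈ Q := hv
      have hv1' : (v : G) ≠ 1 := fun e => hv1 (Subtype.ext e)
      obtain ⟨u, huQ, hu1, huv⟩ : ∃ u ∈ Q, u ≠ 1 ∧ (v : G) * u ≠ 1 := by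
        by_contra hcon
        push Not at hcon
        have hsub : (Q : Set G) ⊆ {1, (v : G)} := by
          intro u hu
          by_cases hu1 : u = 1
          · exact Or.inl hu1
          · have h5 := eq_inv_of_mul_eq_one_right (hcon u hu hu1)
            right
            rw [h5]
            exact inv_eq_of_mul_eq_one_right (hC.full_sq hQ hvQ)
        have h6 := Set.ncard_le_ncard hsub (Set.toFinite _)
        have h8 : (Q : Set G).ncard = p + 1 := by rw [← Nat.card_coe_set_eq]; exact hQ.2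
        have h7 : ({1, (v : G)} : Set G).ncard ≤ 2 := (Set.ncard_insert_le _ _).trans (by simp)
        have := hC.four_le
        omega
      obtain ⟨z, hz, hze⟩ := hC.full_trans hQ hxn hxc hxp huQ (mul_mem hvQ huQ) hu1 huv
      have hzH : z ∈ H := Subgroup.zpowers_le.2 hxH hz
      set z' : H := ⟨z, hzH⟩ with hz'
      have hzL : z' ∈ Subgroup.centralizer (O : Set H) := by
        obtain ⟨i, hi⟩ := Subgroup.mem_zpowers_iff.1 hz
        have : z' = x' ^ i := Subtype.ext (by rw [hz', hx']; simp [hi])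
        rw [this]; exact zpow_mem hxL i
      set u' : H := ⟨u, hQH huQ⟩ with hu'
      have he : v = z' * (u' * z'⁻¹ * u'⁻¹) := Subtype.ext (by
        have : (v : G) = z * u * z⁻¹ * u⁻¹ := by rw [← hze]; group
        simpa [hz', hu', mul_assoc] using this)
      rw [he]
      exact mul_mem hzL ((inferInstance : (Subgroup.centralizer (O : Set H)).Normal).conj_mem _ (inv_mem hzL) u')
    have h1 : Q' ≤ O := (hQL.trans (Subgroup.centralizer_le hFO)).trans (CfsgLib.Hall.centralizer_fitting_le.trans hFO)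
    obtain ⟨v, hv, hv1⟩ := (Q.bot_or_exists_ne_one).resolve_left fun e => by
      have := hQ.2; rw [e, Subgroup.card_bot] at this; have := hp.out.pos; omega
    exact hv1 (mem_two_and_pelem hC.ne_two (x := v)
      (by obtain ⟨n, hn⟩ := isPElem_of_mem hOp (h1 (show (⟨v, hQH hv⟩ : H) ∈ Q' from hv))
          exact ⟨n, by simpa [Subtype.ext_iff] using hn⟩)
      (isPElem_of_mem hQ.1 hv))
  set W' := W.map H.subtype with hW'
  have hWH : H ≤ Subgroup.normalizer (W' : Set G) := le_normalizer_of_normal_map W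
  have hWQ : W' ≤ Q := by
    have h1 : IsPGroup 2 ↥(Q ⊔ W') := hQ.1.to_sup_of_normal_right' (hWp.map _) (hQH.trans hWH)
    rw [hC.full_eq_of_le hQ h1 le_sup_left]
    exact le_sup_right
  obtain ⟨w, hw, hw1⟩ := (W'.bot_or_exists_ne_one).resolve_left fun e =>
    hW1 ((Subgroup.map_eq_bot_iff_of_injective W H.subtype_injective).1 e)
  have hQW : Q ≤ W' := by
    intro v hv
    by_cases hv1 : v = 1
    · exact hv1 ▸ one_mem _
    obtain ⟨z, hz, rfl⟩ := hC.full_trans hQ hxn hxc hxp (hWQ hw) hv hw1 hv1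
    exact (Subgroup.mem_normalizer_iff.1 (hWH (Subgroup.zpowers_le.2 hxH hz)) w).1 hw
  rwa [le_antisymm hWQ hQW] at hWH

theorem centralised_inv (hY : ∃ (Q : Subgroup G) (y : G), Full p Q ∧ IsPElem p y ∧ y ≠ 1 ∧
      y ∈ Subgroup.centralizer (Q : Set G))
    {Q : Subgroup G} (hQ : Full p Q) {t z : G} (ht : t ∈ Q) (ht1 : t ≠ 1) (hz : IsPElem p z) (hzt : z ∈ cent t) :
    z ∈ Subgroup.centralizer (Q : Set G) := by
  obtain ⟨Q0, y0, hQ0, hy0, hy01, hy0c⟩ := hY
  obtain ⟨h, rfl⟩ := hC.full_conj hQ0 hQ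
  set y := h * y0 * h⁻¹
  have hyc : y ∈ Subgroup.centralizer ((MulAut.conj h • Q0 : Subgroup G) : Set G) := by
    refine Subgroup.mem_centralizer_iff.2 fun v hv => ?_
    have h1 := Subgroup.mem_centralizer_iff.1 hy0c _ (CfsgLib.MaxCent.mem_conj_smul_iff.1 hv)
    calc v * (h * y0 * h⁻¹) = h * ((h⁻¹ * v * h) * y0) * h⁻¹ := by group
      _ = h * (y0 * (h⁻¹ * v * h)) * h⁻¹ := by rw [h1]
      _ = (h * y0 * h⁻¹) * v := by group
  have hy1 : y ≠ 1 := fun e => hy01 (conj_eq_one_iff.1 e)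
  have hto : orderOf t = 2 := hC.full_orderOf hQ ht ht1
  have hyt : y ∈ cent t := mem_cent.2 (Subgroup.mem_centralizer_iff.1 hyc t ht).symm
  have hzN : z ∈ Subgroup.normalizer ((MulAut.conj h • Q0 : Subgroup G) : Set G) :=
    hC.cent_le_normalizer hQ (hy0.conj h) hy1 hyc (mem_cent.2 (hC.comm_of_cent hto hzt hyt hz (hy0.conj h)))
  obtain ⟨K, hK, hKle, hKn, hKm, -⟩ := hC.exists_inv_kernel hto
  refine Subgroup.mem_centralizer_iff.2 fun v hv => ?_
  have hvt : v ∈ cent t := mem_cent.2 (hC.full_comm hQ hv ht)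
  have h1 : z * v * z⁻¹ * v⁻¹ ∈ K := by
    have h2 := (Subgroup.mem_normalizer_iff.1 (hKn hvt) z⁻¹).1 (inv_mem (hKm z hzt hz))
    have h3 := mul_mem (hKm z hzt hz) h2
    simpa [mul_assoc] using h3
  have h4 : z * v * z⁻¹ * v⁻¹ ∈ (MulAut.conj h • Q0 : Subgroup G) :=
    mul_mem ((Subgroup.mem_normalizer_iff.1 hzN v).1 hv) (inv_mem hv)
  have h5 := mem_inf_bot hC.ne_two hQ.1 hK h4 h1
  rw [mul_inv_eq_one, mul_inv_eq_iff_eq_mul] at h5
  exact h5.symm

theorem normalizer_odd (hY : ∃ (Q : Subgroup G) (y : G), Full p Q ∧ IsPElem p y ∧ y ≠ 1 ∧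
      y ∈ Subgroup.centralizer (Q : Set G))
    (P : Sylow p G) {t : G} (ht : orderOf t = 2) : t ∉ Subgroup.normalizer ((P : Subgroup G) : Set G) := by
  obtain ⟨ht1, ht2, ht3⟩ := inv_spec ht
  -- the involution centralises nothing in the Sylow subgroup
  have fpf : ∀ (P : Sylow p G) {t : G}, orderOf t = 2 → t ∈ Subgroup.normalizer ((P : Subgroup G) : Set G) →
      ∀ z ∈ (P : Subgroup G), z ∈ cent t → z = 1 := by
    intro P t ht htP z hz hzt
    by_contra hz1
    obtain ⟨ht1, ht2, ht3⟩ := inv_spec ht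
    obtain ⟨Q, hQ, htQ⟩ := hC.exists_full_mem ht
    have hzp : IsPElem p z := isPElem_of_mem P.isPGroup' hz
    have hzc := hC.centralised_inv hY hQ htQ ht3 hzp hzt
    have hPn : ∀ x ∈ (P : Subgroup G), x ∈ Subgroup.centralizer (Q : Set G) := by
      intro x hx
      have hxn : x ∈ Subgroup.normalizer (Q : Set G) :=
        hC.cent_le_normalizer hQ hzp hz1 hzc (mem_cent.2 (hC.ab.comm P.isPGroup' hx hz))
      have h1 : x * t * x⁻¹ * t⁻¹ ∈ (P : Subgroup G) := by
        have h2 := (Subgroup.mem_normalizer_iff.1 htP x⁻¹).1 (inv_mem hx)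
        have h3 := mul_mem hx h2
        simpa [mul_assoc] using h3
      have h4 : x * t * x⁻¹ * t⁻¹ ∈ Q := mul_mem ((Subgroup.mem_normalizer_iff.1 hxn t).1 htQ) (inv_mem htQ)
      have h5 := mem_inf_bot hC.ne_two hQ.1 P.isPGroup' h4 h1
      rw [mul_inv_eq_one, mul_inv_eq_iff_eq_mul] at h5
      exact hC.centralised_inv hY hQ htQ ht3 (isPElem_of_mem P.isPGroup' hx) (mem_cent.2 h5)
    set N := Subgroup.normalizer (Q : Set G) with hN
    haveI : ((Subgroup.centralizer (Q : Set G)).subgroupOf N).Normal := by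
      rw [hN, ← Subgroup.normalizerMonoidHom_ker]
      exact MonoidHom.normal_ker _
    have hPN : (P : Subgroup G) ≤ N := fun x hx => Subgroup.centralizer_le_normalizer _ (hPn x hx)
    obtain ⟨g, hg, hgc, hgp⟩ := hC.full_auto hQ
    have hg' : IsPElem p (⟨g, hg⟩ : N) := by
      obtain ⟨n, hn⟩ := hgp
      exact ⟨n, Subtype.ext (by simpa using hn)⟩
    obtain ⟨P1, hP1⟩ := exists_sylow_mem hg'
    obtain ⟨h, rfl⟩ := MulAction.exists_smul_eq N (P.subtype hPN) P1
    have h2 : h⁻¹ * ⟨g, hg⟩ * h ∈ ((P.subtype hPN : Sylow p N) : Subgroup N) := by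
      rw [← CfsgLib.MaxCent.mem_conj_smul_iff]; exact hP1
    have h3 : h⁻¹ * ⟨g, hg⟩ * h ∈ (Subgroup.centralizer (Q : Set G)).subgroupOf N :=
      Subgroup.mem_subgroupOf.2 (hPn _ (Subgroup.mem_subgroupOf.1 h2))
    have h4 := (inferInstance : ((Subgroup.centralizer (Q : Set G)).subgroupOf N).Normal).conj_mem _ h3 h
    rw [show h * (h⁻¹ * (⟨g, hg⟩ : N) * h) * h⁻¹ = ⟨g, hg⟩ by group] at h4
    exact hgc (Subgroup.mem_subgroupOf.1 h4)
  intro htP
  obtain ⟨Q, y, hQ, hy, hy1, hyc⟩ := hY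
  have hY : ∃ (Q : Subgroup G) (y : G), Full p Q ∧ IsPElem p y ∧ y ≠ 1 ∧ y ∈ Subgroup.centralizer (Q : Set G) :=
    ⟨Q, y, hQ, hy, hy1, hyc⟩
  obtain ⟨P0, hyP, x, hxP, hxn, hxc⟩ := hC.pelem_auto hQ hy (Subgroup.centralizer_le_normalizer _ hyc)
  obtain ⟨h, rfl⟩ := MulAction.exists_smul_eq G P0 P
  set s := h⁻¹ * t * h with hs
  have hso : orderOf s = 2 := by
    have := orderOf_inv_conj ht h⁻¹
    rwa [inv_inv] at this
  obtain ⟨hs1, hs2, hs3⟩ := inv_spec hso
  have hsP : s ∈ Subgroup.normalizer ((P0 : Subgroup G) : Set G) := by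
    rw [Subgroup.mem_normalizer_iff] at htP ⊢
    intro n
    have := htP (h * n * h⁻¹)
    rw [Sylow.coe_subgroup_smul, CfsgLib.MaxCent.mem_conj_smul_iff, CfsgLib.MaxCent.mem_conj_smul_iff] at this
    simpa [hs, mul_assoc] using this
  have hinv : ∀ a ∈ (P0 : Subgroup G), s * a * s⁻¹ = a⁻¹ := by
    intro a ha
    have hsa : s * a * s⁻¹ ∈ (P0 : Subgroup G) := (Subgroup.mem_normalizer_iff.1 hsP a).1 ha
    have hc : a * (s * a * s⁻¹) ∈ cent s := by
      refine mem_cent.2 ?_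
      rw [hs2] at hsa ⊢
      rw [hC.ab.comm P0.isPGroup' ha hsa]
      calc s * a * s * a * s = (s * a * s) * a * s := by group
        _ = a * (s * a * s) * s := by rw [hC.ab.comm P0.isPGroup' hsa ha]
        _ = a * (s * a) * (s * s) := by group
        _ = (s * s) * (a * (s * a)) := by rw [hs1]; group
        _ = s * (s * a * s * a) := by group
    exact (eq_inv_of_mul_eq_one_right (fpf P0 hso hsP _ (mul_mem ha hsa) hc))
  have hsQ : s ∈ Q := by
    refine hC.mem_full hQ ⟨1, by rw [pow_one, pow_two]; exact hs1⟩ ?_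
    have hle := hC.cent_le_normalizer hQ hy hy1 hyc
    have h1 : MulAut.conj s • Q ≤ cent y := by
      intro v hv
      rw [CfsgLib.MaxCent.mem_conj_smul_iff] at hv
      have h2 := Subgroup.mem_centralizer_iff.1 hyc _ hv
      have h3 : (s * y * s⁻¹) * v = v * (s * y * s⁻¹) := by
        calc (s * y * s⁻¹) * v = s * (y * (s⁻¹ * v * s)) * s⁻¹ := by group
          _ = s * ((s⁻¹ * v * s) * y) * s⁻¹ := by rw [h2]
          _ = _ := by group
      rw [hinv y hyP] at h3
      exact mem_cent.2 (by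
        calc v * y = y * (y⁻¹ * v) * y := by group
          _ = y * (v * y⁻¹) * y := by rw [h3]
          _ = y * v := by group)
    refine Subgroup.mem_normalizer_iff_map_conj_eq.2 ?_
    have h4 : IsPGroup 2 ↥(MulAut.conj s • Q : Subgroup G) := hQ.1.map _
    have h5 := hC.full_eq_of_le hQ (h4.to_sup_of_normal_right' hQ.1 (h1.trans hle)) le_sup_right
    exact Subgroup.eq_of_le_of_card_ge (le_sup_left.trans h5.ge)
      (by rw [Subgroup.card_map_of_injective (MulAut.conj s).injective])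
  have hx1 : x ≠ 1 := fun e => hxc (e ▸ one_mem _)
  have hxp : IsPElem p x := isPElem_of_mem P0.isPGroup' hxP
  have h6 : x * x ∈ Q := by
    have h7 := mul_mem ((Subgroup.mem_normalizer_iff.1 hxn s).1 hsQ) (inv_mem hsQ)
    have h8 : x * s * x⁻¹ * s⁻¹ = x * x := by
      rw [show x * s * x⁻¹ * s⁻¹ = x * (s * x⁻¹ * s⁻¹) by group, hinv x⁻¹ (inv_mem hxP), inv_inv]
    rwa [h8] at h7
  exact hx1 (eq_one_of_sq hC.ne_two hxp (mem_inf_bot hC.ne_two hQ.1 P0.isPGroup' h6 (mul_mem hxP hxP)))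

theorem not_centralised {Q : Subgroup G} (hQ : Full p Q) {y : G} (hy : IsPElem p y)
    (hyc : y ∈ Subgroup.centralizer (Q : Set G)) : y = 1 := by
  by_contra hy1
  haveI := Fact.mk Nat.prime_two
  have hY : ∃ (Q : Subgroup G) (y : G), Full p Q ∧ IsPElem p y ∧ y ≠ 1 ∧ y ∈ Subgroup.centralizer (Q : Set G) :=
    ⟨Q, y, hQ, hy, hy1, hyc⟩
  obtain ⟨t, ht⟩ := exists_prime_orderOf_dvd_card' 2 hC.even
  obtain ⟨ht1, ht2, ht3⟩ := inv_spec ht
  have htwo : ∀ g : G, IsPElem 2 (t * (g * t * g⁻¹)) := by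
    intro g
    by_contra hne
    obtain ⟨k, hz, hzi, -⟩ := hC.exists_inverted ht (orderOf_inv_conj ht g) hne
    set z := (t * (g * t * g⁻¹)) ^ k
    have hzp : IsPElem p z := ⟨1, by rw [pow_one, ← hz, pow_orderOf_eq_one]⟩
    obtain ⟨P, hzP⟩ := exists_sylow_mem hzp
    set C := cent z with hCz
    have hPC : (P : Subgroup G) ≤ C := fun a ha => mem_cent.2 (hC.ab.comm P.isPGroup' ha hzP)
    have hzP' : z ∈ ((t • P : Sylow p G) : Subgroup G) := by
      rw [Sylow.coe_subgroup_smul, CfsgLib.MaxCent.mem_conj_smul_iff, ← inv_mem_iff]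
      have : (t⁻¹ * z * t)⁻¹ = z := by
        rw [mul_inv_rev, mul_inv_rev, inv_inv, ← hzi, ht2]
        calc t * (t * z * t * t) = (t * t) * z * (t * t) := by group
          _ = z := by rw [ht1]; group
      rw [this]; exact hzP
    have hPC' : ((t • P : Sylow p G) : Subgroup G) ≤ C :=
      fun a ha => mem_cent.2 (hC.ab.comm (t • P).isPGroup' ha hzP')
    obtain ⟨c, hc⟩ := MulAction.exists_smul_eq C ((t • P).subtype hPC') (P.subtype hPC)
    rw [Sylow.smul_subtype hPC'] at hc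
    have hc2 := Sylow.subtype_injective hc
    set m := (c : G) * t with hm
    have hmN : m ∈ Subgroup.normalizer ((P : Subgroup G) : Set G) := by
      refine Sylow.smul_eq_iff_mem_normalizer.1 ?_
      rw [hm, mul_smul]
      exact hc2
    have hmz : m * z * m⁻¹ = z⁻¹ := by
      have h1 : (c : G) * z⁻¹ = z⁻¹ * c := (Commute.inv_right (mem_cent.1 c.2))
      calc m * z * m⁻¹ = (c : G) * (t * z * t⁻¹) * (c : G)⁻¹ := by rw [hm]; group
        _ = (c : G) * z⁻¹ * (c : G)⁻¹ := by rw [hzi]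
        _ = z⁻¹ := by rw [h1, mul_inv_cancel_right]
    have hsq : Commute (m * m) z := by
      have : m * m * z * (m * m)⁻¹ = z := by
        calc m * m * z * (m * m)⁻¹ = m * (m * z * m⁻¹) * m⁻¹ := by group
          _ = m * z⁻¹ * m⁻¹ := by rw [hmz]
          _ = (m * z * m⁻¹)⁻¹ := by group
          _ = z := by rw [hmz, inv_inv]
      exact mul_inv_eq_iff_eq_mul.1 this
    rcases Nat.even_or_odd (orderOf m) with ⟨j, hj⟩ | ⟨j, hj⟩
    · have hu : orderOf (m ^ (orderOf m / 2)) = 2 := orderOf_pow_orderOf_div (orderOf_pos m).ne' ⟨j, by omega⟩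
      exact hC.normalizer_odd hY P hu (pow_mem hmN _)
    · have h1 : m = (m * m) ^ (j + 1) := by
        rw [← pow_two, ← pow_mul, show 2 * (j + 1) = orderOf m + 1 by omega, pow_succ, pow_orderOf_eq_one, one_mul]
      have h2 : m * z * m⁻¹ = z := by rw [h1, (hsq.pow_left (j + 1)).eq, mul_inv_cancel_right]
      have hz1 : z = 1 := eq_one_of_sq hC.ne_two hzp (by
        nth_rewrite 1 [← h2]; rw [hmz, inv_mul_cancel])
      rw [hz1, orderOf_one] at hz
      exact hp.out.ne_one hz.symm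
  have hmem : t ∈ Cfsg.pCore 2 G := CfsgLib.Subnormal.mem_pCore_of_forall_isPGroup fun g =>
    hC.two_group_of_two_elem ht (orderOf_inv_conj ht g) (htwo g)
  exact hC.not_normal_two (CfsgLib.Subnormal.isPGroup_pCore 2)
    (fun e => ht3 (Subgroup.mem_bot.1 (e ▸ hmem)))
    (Subgroup.normalizer_eq_top_iff.2 (CfsgLib.Subnormal.normal_pCore 2))

end Cfg

end CfsgLib.TwoPrime
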