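import Mathlib
import Cfsg.Agent.TwoPrime.Centralised

/-!
The configuration does not exist.
-/

set_option autoImplicit false
set_option linter.style.haveILetI false
set_option linter.unusedSectionVars false

namespace CfsgLib.TwoPrime

open CfsgLib.MaxCent (IsPElem cent mem_cent)
open scoped Pointwise

/-- A symmetric zero-one relation on a finite type which is `k`-regular, with `k ≥ 3`, cannot have the property
that any two distinct points have exactly one common neighbour. -/
theorem no_friendship {α : Type*} [Fintype α] [Nonempty α] [DecidableEq α] (R : α → α → Prop) [DecidableRel R]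
    (hirr : ∀ a, ¬ R a a) (hsymm : ∀ a b, R a b → R b a) (k : ℕ) (hk : 3 ≤ k)
    (hdeg : ∀ a, (Finset.univ.filter (R a)).card = k)
    (huniq : ∀ a b, a ≠ b → ∃! c, R a c ∧ R c b) : False := by
  obtain ⟨s, hs, hsd⟩ := Nat.exists_prime_and_dvd (show k - 1 ≠ 1 by omega)
  haveI := Fact.mk hs
  have hk1 : (k : ZMod s) = 1 := by
    have h : ((k - 1 : ℕ) : ZMod s) = 0 := (ZMod.natCast_eq_zero_iff _ _).2 hsd
    rw [Nat.cast_sub (by omega), Nat.cast_one, sub_eq_zero] at h
    exact h
  set A : Matrix α α (ZMod s) := Matrix.of fun a b => if R a b then 1 else 0 with hA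
  set J : Matrix α α (ZMod s) := Matrix.of fun _ _ => 1 with hJ
  have hAA : ∀ a b, (A * A) a b = ((Finset.univ.filter (fun c => R a c ∧ R c b)).card : ZMod s) := by
    intro a b
    rw [Matrix.mul_apply, Finset.card_filter, Nat.cast_sum]
    refine Finset.sum_congr rfl fun c _ => ?_
    by_cases h1 : R a c <;> by_cases h2 : R c b <;> simp [hA, h1, h2]
  have hsq : A * A = J := by
    ext a b
    rw [hAA]
    by_cases hab : a = b
    · subst hab
      have : Finset.univ.filter (fun c => R a c ∧ R c a) = Finset.univ.filter (R a) :=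
        Finset.filter_congr fun c _ => ⟨fun h => h.1, fun h => ⟨h, hsymm a c h⟩⟩
      rw [this, hdeg, hk1]; rfl
    · obtain ⟨c, hc, hcu⟩ := huniq a b hab
      have : Finset.univ.filter (fun c => R a c ∧ R c b) = {c} := by
        ext x
        simp only [Finset.mem_filter, Finset.mem_univ, true_and, Finset.mem_singleton]
        exact ⟨hcu x, fun h => h ▸ hc⟩
      rw [this, Finset.card_singleton, Nat.cast_one]; rfl
  have hAJ : A * J = J := by
    ext a b
    rw [Matrix.mul_apply]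
    have : ∀ c, A a c * J c b = if R a c then 1 else 0 := fun c => by simp [hA, hJ]
    simp only [this]
    rw [Finset.sum_boole, hdeg, hk1]; rfl
  have hpow : ∀ i : ℕ, 2 ≤ i → A ^ i = J := by
    intro i hi
    induction i, hi using Nat.le_induction with
    | base => rw [pow_two, hsq]
    | succ i _ ih => rw [pow_succ', ih, hAJ]
  have htr := ZMod.trace_pow_card A
  have hA0 : A.trace = 0 := by
    simp [Matrix.trace, Matrix.diag, hA, hirr]
  rw [hA0, zero_pow hs.pos.ne'] at htr
  rw [hpow s hs.two_le] at htr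
  have hn : (Fintype.card α : ZMod s) = 0 := by
    rw [← htr]; simp [Matrix.trace, Matrix.diag, hJ]
  -- the sum of a row of the square
  obtain ⟨a⟩ := ‹Nonempty α›
  have h1 : ∑ b, (A * A) a b = 1 := by
    rw [show ∑ b, (A * A) a b = ∑ c, A a c * ∑ b, A c b by
      simp only [Matrix.mul_apply, Finset.mul_sum]; exact Finset.sum_comm]
    have : ∀ c, ∑ b, A c b = 1 := fun c => by
      simp only [hA, Matrix.of_apply]; rw [Finset.sum_boole, hdeg, hk1]
    simp only [this, mul_one]
  rw [hsq] at h1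
  simp [hJ, hn] at h1

variable {G : Type*} [Group G] [Finite G] {p : ℕ} [hp : Fact p.Prime]

namespace Cfg

variable (hC : Cfg p G)
include hC

theorem isPElem_of_order {z : G} (hz : orderOf z = p) : IsPElem p z := ⟨1, by rw [pow_one, ← hz, pow_orderOf_eq_one]⟩

/-- An element of order `p` with normaliser of even order lies in only one Sylow subgroup. -/
theorem sylow_of_order {z : G} (hz : orderOf z = p)
    (h2 : 2 ∣ Nat.card (Subgroup.normalizer (Subgroup.zpowers z : Set G))) :
    ∃ P : Sylow p G, z ∈ (P : Subgroup G) ∧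
      Subgroup.normalizer (Subgroup.zpowers z : Set G) ≤ Subgroup.normalizer ((P : Subgroup G) : Set G) ∧
      ∀ P' : Sylow p G, z ∈ (P' : Subgroup G) → P' = P := by
  set H := Subgroup.normalizer (Subgroup.zpowers z : Set G) with hH
  have hzp : IsPElem p z := hC.isPElem_of_order hz
  have hz1 : z ≠ 1 := fun e => by rw [e, orderOf_one] at hz; exact hp.out.ne_one hz.symm
  have hcz : cent z ≤ H := by
    intro g hg
    rw [hH, Subgroup.mem_normalizer_iff_map_conj_eq, MonoidHom.map_zpowers]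
    show Subgroup.zpowers (g * z * g⁻¹) = _
    rw [mem_cent.1 hg, mul_inv_cancel_right]
  -- a `p`-element normalising the group of order `p` centralises it
  have hpc : ∀ x ∈ H, IsPElem p x → x ∈ cent z := by
    intro x hx hxp
    obtain ⟨n, hn⟩ := IsPElem.orderOf_eq hxp
    have hg : IsPGroup p (Subgroup.zpowers x) := IsPGroup.of_card (n := n) (by rw [Nat.card_zpowers, hn])
    have hzg : IsPGroup p (Subgroup.zpowers z) := IsPGroup.of_card (n := 1) (by rw [Nat.card_zpowers, hz, pow_one])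
    exact mem_cent.2 (hC.ab.comm (hg.to_sup_of_normal_right' hzg (Subgroup.zpowers_le.2 hx))
      (Subgroup.mem_sup_left (Subgroup.mem_zpowers x)) (Subgroup.mem_sup_right (Subgroup.mem_zpowers z)))
  haveI hcn : ((cent z).subgroupOf H).Normal := by
    refine ⟨fun c hc g => ?_⟩
    rw [Subgroup.mem_subgroupOf] at hc ⊢
    obtain ⟨i, hi⟩ := Subgroup.mem_zpowers_iff.1
      ((Subgroup.mem_normalizer_iff.1 (inv_mem g.2) z).1 (Subgroup.mem_zpowers z))
    refine mem_cent.2 ?_
    have h1 : (c : G) * ((g : G)⁻¹ * z * g) = ((g : G)⁻¹ * z * g) * c := by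
      have e : (g : G)⁻¹ * z * g = z ^ i := by rw [hi]; group
      rw [e]; exact (show Commute (c : G) z from mem_cent.1 hc).zpow_right i
    calc ((g * c * g⁻¹ : H) : G) * z = (g : G) * ((c : G) * ((g : G)⁻¹ * z * g)) * (g : G)⁻¹ := by push_cast; group
      _ = (g : G) * (((g : G)⁻¹ * z * g) * c) * (g : G)⁻¹ := by rw [h1]
      _ = z * ((g * c * g⁻¹ : H) : G) := by push_cast; group
  -- no full subgroup lies in the normaliser
  have hnofull : ∀ (Q : Subgroup G) (x : G), Full p Q → Q ≤ H → x ∈ H → x ∈ Subgroup.normalizer (Q : Set G) →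
      x ∉ Subgroup.centralizer (Q : Set G) → IsPElem p x → False := by
    intro Q x hQ hQH hxH hx hxc hxp
    have hxz := hpc x hxH hxp
    refine hz1 (hC.not_centralised hQ hzp (Subgroup.mem_centralizer_iff.2 fun v hv => ?_))
    by_cases hv1 : v = 1
    · simp [hv1]
    obtain ⟨u, huQ, hu1, huv⟩ : ∃ u ∈ Q, u ≠ 1 ∧ v * u ≠ 1 := by
      by_contra hcon
      push Not at hcon
      have hsub : (Q : Set G) ⊆ {1, v} := by
        intro u hu
        by_cases hu1 : u = 1
        · exact Or.inl hu1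
        · right
          rw [eq_inv_of_mul_eq_one_right (hcon u hu hu1)]
          exact inv_eq_of_mul_eq_one_right (hC.full_sq hQ hv)
      have h6 := Set.ncard_le_ncard hsub (Set.toFinite _)
      have h8 : (Q : Set G).ncard = p + 1 := by rw [← Nat.card_coe_set_eq]; exact hQ.2
      have h7 : ({1, v} : Set G).ncard ≤ 2 := (Set.ncard_insert_le _ _).trans (by simp)
      have := hC.four_le
      omega
    obtain ⟨w, hw, hwe⟩ := hC.full_trans hQ hx hxc hxp huQ (mul_mem hv huQ) hu1 huv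
    have hwc : w ∈ cent z := Subgroup.zpowers_le.2 hxz hw
    have h1 : (⟨u, hQH huQ⟩ : H) * (⟨w⁻¹, inv_mem (hcz hwc)⟩ : H) * (⟨u, hQH huQ⟩ : H)⁻¹ ∈ (cent z).subgroupOf H :=
      hcn.conj_mem _ (Subgroup.mem_subgroupOf.2 (inv_mem hwc)) _
    have h2 := mul_mem hwc (Subgroup.mem_subgroupOf.1 h1)
    have h3 : v ∈ cent z := by
      have e : v = w * (u * w⁻¹ * u⁻¹) := by
        calc v = v * u * u⁻¹ := by group
          _ = w * u * w⁻¹ * u⁻¹ := by rw [hwe]
          _ = _ := by group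
      rw [e]; simpa using h2
    exact mem_cent.1 h3
  have hne : H ≠ ⊤ := by
    intro htop
    haveI := Fact.mk Nat.prime_two
    obtain ⟨t, ht⟩ := exists_prime_orderOf_dvd_card' 2 hC.even
    obtain ⟨Q, hQ, -⟩ := hC.exists_full_mem ht
    obtain ⟨g, hg, hgc, hgp⟩ := hC.full_auto hQ
    exact hnofull Q g hQ (htop ▸ le_top) (htop ▸ Subgroup.mem_top g) hg hgc hgp
  have hcomp : Cfsg.HasNormalPComplement 2 H := by
    by_contra hc
    obtain ⟨Q, x, hQ, hQH, hxH, hx, hxc, hxp⟩ := hC.exists_full_in hc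
    exact hnofull Q x hQ hQH hxH hx hxc hxp
  obtain ⟨K, hK, -, hKn, hKm, -⟩ := hC.exists_kernel hne h2 hcomp
  obtain ⟨P, hzP⟩ := exists_sylow_mem hzp
  have hPK : ∀ P' : Sylow p G, z ∈ (P' : Subgroup G) → (P' : Subgroup G) = K := fun P' hP' =>
    (P'.3 hK fun a ha => hKm a (hcz (mem_cent.2 (hC.ab.comm P'.isPGroup' ha hP'))) (isPElem_of_mem P'.isPGroup' ha)).symm
  exact ⟨P, hzP, (hPK P hzP).symm ▸ hKn, fun P' hP' => Sylow.ext ((hPK P' hP').trans (hPK P hzP).symm)⟩

theorem even_of_cent {z t : G} (ht : orderOf t = 2) (h : z ∈ cent t) :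
    2 ∣ Nat.card (Subgroup.normalizer (Subgroup.zpowers z : Set G)) := by
  rw [← ht]
  refine Subgroup.orderOf_dvd_natCard _ ?_
  rw [Subgroup.mem_normalizer_iff_map_conj_eq, MonoidHom.map_zpowers]
  show Subgroup.zpowers (t * z * t⁻¹) = _
  rw [← mem_cent.1 h, mul_inv_cancel_right]

theorem even_of_inverted {z t : G} (ht : orderOf t = 2) (h : t * z * t⁻¹ = z⁻¹) :
    2 ∣ Nat.card (Subgroup.normalizer (Subgroup.zpowers z : Set G)) :=
  ht ▸ Subgroup.orderOf_dvd_natCard _ (hC.mem_normalizer_zpowers ht h)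

theorem cent_le_of_order {z : G} {P : Sylow p G}
    (h : Subgroup.normalizer (Subgroup.zpowers z : Set G) ≤ Subgroup.normalizer ((P : Subgroup G) : Set G)) :
    cent z ≤ Subgroup.normalizer ((P : Subgroup G) : Set G) := by
  refine le_trans (fun g hg => ?_) h
  rw [Subgroup.mem_normalizer_iff_map_conj_eq, MonoidHom.map_zpowers]
  show Subgroup.zpowers (g * z * g⁻¹) = _
  rw [mem_cent.1 hg, mul_inv_cancel_right]

/-- `p`-elements centralising an involution lie in the Sylow subgroup of any one of them. -/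
theorem pelem_cent_mem {t z a : G} (ht : orderOf t = 2) {P : Sylow p G} (hzP : z ∈ (P : Subgroup G))
    (hz1 : z ≠ 1) (hzt : z ∈ cent t) (ha : IsPElem p a) (hat : a ∈ cent t) : a ∈ (P : Subgroup G) := by
  have hzp : IsPElem p z := isPElem_of_mem P.isPGroup' hzP
  obtain ⟨k, hk⟩ := exists_order_p hzp hz1
  obtain ⟨P', hP', hle, huniq⟩ := hC.sylow_of_order hk (hC.even_of_cent ht (pow_mem hzt k))
  rw [huniq P (pow_mem hzP k)]
  refine pelem_mem_sylow ha (hC.cent_le_of_order hle (mem_cent.2 ?_))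
  exact hC.comm_of_cent ht hat (pow_mem hzt k) ha (IsPElem.pow' hzp k)

/-- If some `p`-element centralises an involution, each involution `t` has a Sylow `p`-subgroup which it centralises. -/
theorem exists_fix (hA : ∃ t z : G, orderOf t = 2 ∧ z ≠ 1 ∧ IsPElem p z ∧ z ∈ cent t) {t : G} (ht : orderOf t = 2) :
    ∃ P : Sylow p G, cent t ≤ Subgroup.normalizer ((P : Subgroup G) : Set G) ∧
      (∀ a ∈ (P : Subgroup G), a ∈ cent t) ∧
      ∀ Q : Subgroup G, Full p Q → t ∈ Q → ∀ v ∈ Q, v ≠ 1 → v ≠ t → ∀ a ∈ (P : Subgroup G), v * a * v⁻¹ = a⁻¹ := by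
  obtain ⟨ht1, ht2, ht3⟩ := inv_spec ht
  obtain ⟨t0, z0, ht0, hz01, hz0p, hz0t⟩ := hA
  obtain ⟨h, rfl⟩ := hC.inv_conj ht0 ht
  obtain ⟨k, hk0⟩ := exists_order_p hz0p hz01
  set z := h * z0 ^ k * h⁻¹ with hzdef
  have hk : orderOf z = p := by
    rw [← hk0]; exact MulEquiv.orderOf_eq (MulAut.conj h) (z0 ^ k)
  have hz1 : z ≠ 1 := fun e => by rw [e, orderOf_one] at hk; exact hp.out.ne_one hk.symm
  have hzt : z ∈ cent (h * t0 * h⁻¹) := by
    rw [CfsgLib.MaxCent.cent_conj, CfsgLib.MaxCent.mem_conj_smul_iff, hzdef]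
    simpa [mul_assoc] using pow_mem hz0t k
  set t := h * t0 * h⁻¹ with htdef
  obtain ⟨P, hzP, hle, huniq⟩ := hC.sylow_of_order hk (hC.even_of_cent ht hzt)
  have hnorm : cent t ≤ Subgroup.normalizer ((P : Subgroup G) : Set G) := by
    intro g hg
    have hz' : g * z * g⁻¹ ∈ cent t := mul_mem (mul_mem hg hzt) (inv_mem hg)
    have hP' : g * z * g⁻¹ ∈ (P : Subgroup G) :=
      hC.pelem_cent_mem ht hzP hz1 hzt ((hC.isPElem_of_order hk).conj g) hz'
    refine Sylow.smul_eq_iff_mem_normalizer.1 ?_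
    have hk' : orderOf (g * z * g⁻¹) = p := by rw [← hk]; exact MulEquiv.orderOf_eq (MulAut.conj g) z
    obtain ⟨P2, -, -, huniq2⟩ := hC.sylow_of_order hk' (hC.even_of_cent ht hz')
    rw [huniq2 P hP', huniq2 (g • P2) ?_]
    rw [← huniq2 P hP', Sylow.coe_subgroup_smul, CfsgLib.MaxCent.mem_conj_smul_iff]
    simpa [mul_assoc] using hzP
  have hfpf : ∀ Q : Subgroup G, Full p Q → t ∈ Q → ∀ v ∈ Q, v ≠ 1 → v ≠ t →
      ∀ a ∈ (P : Subgroup G), a ∈ cent v → a = 1 := by
    intro Q hQ htQ v hv hv1 hvt a ha hav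
    by_contra ha1
    obtain ⟨x, hxn, hxp, hxe⟩ := hC.full_trans' hQ htQ hv ht3 hv1
    have hvo := hC.full_orderOf hQ hv hv1
    have hz' : x * z * x⁻¹ ∈ cent v := by
      rw [hxe, CfsgLib.MaxCent.cent_conj, CfsgLib.MaxCent.mem_conj_smul_iff]
      simpa [mul_assoc] using hzt
    have hP' : x * z * x⁻¹ ∈ (P : Subgroup G) :=
      hC.pelem_cent_mem hvo ha ha1 hav ((hC.isPElem_of_order hk).conj x) hz'
    have hk' : orderOf (x * z * x⁻¹) = p := by rw [← hk]; exact MulEquiv.orderOf_eq (MulAut.conj x) z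
    obtain ⟨P2, -, -, huniq2⟩ := hC.sylow_of_order hk' (hC.even_of_cent hvo hz')
    have hxP : x ∈ (P : Subgroup G) := by
      refine pelem_mem_sylow hxp (Sylow.smul_eq_iff_mem_normalizer.1 ?_)
      rw [huniq2 P hP', huniq2 (x • P2) ?_]
      rw [← huniq2 P hP', Sylow.coe_subgroup_smul, CfsgLib.MaxCent.mem_conj_smul_iff]
      simpa [mul_assoc] using hzP
    have h1 : x * t * x⁻¹ * t⁻¹ ∈ (P : Subgroup G) := by
      have h2 := (Subgroup.mem_normalizer_iff.1 (hnorm (CfsgLib.MaxCent.self_mem_cent t)) x⁻¹).1 (inv_mem hxP)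
      have h3 := mul_mem hxP h2
      simpa [mul_assoc] using h3
    have h4 : x * t * x⁻¹ * t⁻¹ ∈ Q := mul_mem ((Subgroup.mem_normalizer_iff.1 hxn t).1 htQ) (inv_mem htQ)
    have h5 := mem_inf_bot hC.ne_two hQ.1 P.isPGroup' h4 h1
    rw [mul_inv_eq_one] at h5
    exact hvt (hxe.trans h5)
  have hinv : ∀ Q : Subgroup G, Full p Q → t ∈ Q → ∀ v ∈ Q, v ≠ 1 → v ≠ t →
      ∀ a ∈ (P : Subgroup G), v * a * v⁻¹ = a⁻¹ := by
    intro Q hQ htQ v hv hv1 hvt a ha
    obtain ⟨hw1, hw2, -⟩ := inv_spec (hC.full_orderOf hQ hv hv1)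
    have hvN := hnorm (mem_cent.2 (hC.full_comm hQ hv htQ))
    have hva : v * a * v⁻¹ ∈ (P : Subgroup G) := (Subgroup.mem_normalizer_iff.1 hvN a).1 ha
    have hc : a * (v * a * v⁻¹) ∈ cent v := by
      refine mem_cent.2 ?_
      rw [hw2] at hva ⊢
      rw [hC.ab.comm P.isPGroup' ha hva]
      calc v * a * v * a * v = (v * a * v) * a * v := by group
        _ = a * (v * a * v) * v := by rw [hC.ab.comm P.isPGroup' hva ha]
        _ = a * (v * a) * (v * v) := by group
        _ = (v * v) * (a * (v * a)) := by rw [hw1]; group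
        _ = v * (v * a * v * a) := by group
    exact eq_inv_of_mul_eq_one_right (hfpf Q hQ htQ v hv hv1 hvt _ (mul_mem ha hva) hc)
  refine ⟨P, hnorm, fun a ha => ?_, hinv⟩
  obtain ⟨Q, hQ, htQ⟩ := hC.exists_full_mem ht
  obtain ⟨v, hv, hv1, hvt⟩ : ∃ v ∈ Q, v ≠ 1 ∧ v ≠ t := by
    by_contra hcon
    push Not at hcon
    have hsub : (Q : Set G) ⊆ {1, t} := fun u hu => by
      by_cases hu1 : u = 1
      · exact Or.inl hu1
      · exact Or.inr (hcon u hu hu1)
    have h6 := Set.ncard_le_ncard hsub (Set.toFinite _)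
    have h8 : (Q : Set G).ncard = p + 1 := by rw [← Nat.card_coe_set_eq]; exact hQ.2
    have h7 : ({1, t} : Set G).ncard ≤ 2 := (Set.ncard_insert_le _ _).trans (by simp)
    have := hC.four_le
    omega
  have h1 := hinv Q hQ htQ v hv hv1 hvt a ha
  have hvv := hC.full_sq hQ hv
  have h2 := hinv Q hQ htQ (v * t) (mul_mem hv htQ)
    (fun e => hvt (by rw [eq_inv_of_mul_eq_one_left e, ht2]))
    (fun e => hv1 (mul_right_cancel (b := t) (e.trans (one_mul t).symm))) a ha
  have h3 : v * (t * a * t⁻¹) * v⁻¹ = v * a * v⁻¹ := by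
    rw [h1, ← h2]; group
  have h4 : t * a * t⁻¹ = a := mul_left_cancel (mul_right_cancel h3)
  exact mem_cent.2 (mul_inv_eq_iff_eq_mul.1 h4).symm

theorem no_fixed (hA : ∃ t z : G, orderOf t = 2 ∧ z ≠ 1 ∧ IsPElem p z ∧ z ∈ cent t) : False := by
  classical
  haveI := Fact.mk Nat.prime_two
  have hA' := hA
  obtain ⟨t0, z0, ht0, -, -, -⟩ := hA
  let I := {t : G // orderOf t = 2}
  haveI : Fintype I := Fintype.ofFinite _
  haveI : Nonempty I := ⟨⟨t0, ht0⟩⟩
  let R : I → I → Prop := fun a b => a ≠ b ∧ (a : G) * b = b * a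
  have hPne : ∀ P : Sylow p G, ∃ a ∈ (P : Subgroup G), a ≠ 1 := fun P => by
    obtain ⟨a, ha, ha1⟩ := (P : Subgroup G).bot_or_exists_ne_one.resolve_left (P.ne_bot_of_dvd_card hC.dvd)
    exact ⟨a, ha, ha1⟩
  -- an involution commuting with `t` and centralising its Sylow subgroup is `t`
  have hself : ∀ {t v : G} (ht : orderOf t = 2) (hv : orderOf v = 2) {P : Sylow p G},
      (∀ Q : Subgroup G, Full p Q → t ∈ Q → ∀ u ∈ Q, u ≠ 1 → u ≠ t → ∀ a ∈ (P : Subgroup G), u * a * u⁻¹ = a⁻¹) →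
      t * v = v * t → (∀ a ∈ (P : Subgroup G), v * a = a * v) → v = t := by
    intro t v ht hv P hinv hc hvP
    by_contra hne
    have h2 : IsPElem 2 (t * v) := ⟨1, by
      rw [pow_one, pow_two, mul_assoc, ← mul_assoc v t v, ← hc, mul_assoc t v v, (inv_spec hv).1, mul_one, (inv_spec ht).1]⟩
    obtain ⟨Q, hQ, hle⟩ := hC.exists_full (hC.two_group_of_two_elem ht hv h2)
    obtain ⟨a, ha, ha1⟩ := hPne P
    have h3 := hinv Q hQ (hle (Subgroup.subset_closure (Set.mem_insert _ _))) v
      (hle (Subgroup.subset_closure (Set.mem_insert_of_mem _ rfl))) (inv_spec hv).2.2 hne a ha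
    rw [hvP a ha, mul_inv_cancel_right] at h3
    exact ha1 (eq_one_of_sq hC.ne_two (isPElem_of_mem P.isPGroup' ha) (by nth_rewrite 1 [h3]; rw [inv_mul_cancel]))
  have huniq : ∀ a b : I, a ≠ b → ∃! c, R a c ∧ R c b := by
    rintro ⟨t, ht⟩ ⟨u, hu⟩ hne
    have hne' : t ≠ u := fun e => hne (Subtype.ext e)
    obtain ⟨ht1, ht2, ht3⟩ := inv_spec ht
    obtain ⟨hu1, hu2, hu3⟩ := inv_spec hu
    by_cases hc : t * u = u * t
    · have h2 : IsPElem 2 (t * u) := ⟨1, by
        rw [pow_one, pow_two, mul_assoc, ← mul_assoc u t u, ← hc, mul_assoc t u u, hu1, mul_one, ht1]⟩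
      obtain ⟨Q, hQ, hle⟩ := hC.exists_full (hC.two_group_of_two_elem ht hu h2)
      have htQ : t ∈ Q := hle (Subgroup.subset_closure (Set.mem_insert _ _))
      have huQ : u ∈ Q := hle (Subgroup.subset_closure (Set.mem_insert_of_mem _ rfl))
      have hne1 : t * u ≠ 1 := fun e => hne' (by rw [eq_inv_of_mul_eq_one_left e, hu2])
      have hwo : orderOf (t * u) = 2 := hC.full_orderOf hQ (mul_mem htQ huQ) hne1
      refine ⟨⟨t * u, hwo⟩, ⟨⟨fun e => ?_, ?_⟩, ⟨fun e => ?_, ?_⟩⟩, ?_⟩
      · exact hu3 (mul_left_cancel ((mul_one t).trans (congrArg Subtype.val e))).symm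
      · exact hC.full_comm hQ htQ (mul_mem htQ huQ)
      · exact ht3 (mul_right_cancel ((congrArg Subtype.val e).trans (one_mul u).symm))
      · exact hC.full_comm hQ (mul_mem htQ huQ) huQ
      rintro ⟨w, hw⟩ ⟨⟨hwt, hwtc⟩, ⟨hwu, hwuc⟩⟩
      apply Subtype.ext
      have hwt' : w ≠ t := fun e => hwt (Subtype.ext e.symm)
      have hwu' : w ≠ u := fun e => hwu (Subtype.ext e)
      show w = t * u
      by_contra hwn
      obtain ⟨P, -, hPt, hPinv⟩ := hC.exists_fix hA' ht
      obtain ⟨a, ha, ha1⟩ := hPne P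
      -- the three involutions generate a 2-group
      have hVn : w ∈ Subgroup.normalizer ((Q ⊓ cent w : Subgroup G) : Set G) ∧ True := ⟨by
        rw [Subgroup.mem_normalizer_iff]
        intro n
        constructor
        · intro hn
          have h5 : w * n * w⁻¹ = n := by rw [← mem_cent.1 hn.2, mul_inv_cancel_right]
          rw [h5]; exact hn
        · intro hn
          have h5 : n = w⁻¹ * (w * n * w⁻¹) * w := by group
          have h6 : w⁻¹ * (w * n * w⁻¹) * w = w * n * w⁻¹ := by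
            rw [mul_assoc, mem_cent.1 hn.2, ← mul_assoc, inv_mul_cancel, one_mul]
          rw [h5, h6]; exact hn, trivial⟩
      have hZw : IsPGroup 2 (Subgroup.zpowers w) := IsPGroup.of_card (n := 1) (by rw [Nat.card_zpowers, hw, pow_one])
      have hVp : IsPGroup 2 ↥(Subgroup.zpowers w ⊔ (Q ⊓ cent w)) :=
        hZw.to_sup_of_normal_right' (hQ.1.to_le inf_le_left) (Subgroup.zpowers_le.2 hVn.1)
      obtain ⟨Q', hQ', hle'⟩ := hC.exists_full hVp
      have htQ' : t ∈ Q' := hle' (Subgroup.mem_sup_right ⟨htQ, mem_cent.2 hwtc⟩)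
      have huQ' : u ∈ Q' := hle' (Subgroup.mem_sup_right ⟨huQ, mem_cent.2 hwuc.symm⟩)
      have hwQ' : w ∈ Q' := hle' (Subgroup.mem_sup_left (Subgroup.mem_zpowers w))
      have hw3 : w * u ≠ t := fun e => hwn (by rw [← e, mul_assoc, hu1, mul_one])
      have hw4 : w * u ≠ 1 := fun e => hwu' (by rw [eq_inv_of_mul_eq_one_left e, hu2])
      have e1 := hPinv Q' hQ' htQ' w hwQ' (inv_spec hw).2.2 hwt' a ha
      have e2 := hPinv Q' hQ' htQ' u huQ' hu3 hne'.symm a ha
      have e3 := hPinv Q' hQ' htQ' (w * u) (mul_mem hwQ' huQ') hw4 hw3 a ha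
      have e4 : w * u * a * (w * u)⁻¹ = a := by
        calc w * u * a * (w * u)⁻¹ = w * (u * a * u⁻¹) * w⁻¹ := by group
          _ = (w * a * w⁻¹)⁻¹ := by rw [e2]; group
          _ = a := by rw [e1, inv_inv]
      exact ha1 (eq_one_of_sq hC.ne_two (isPElem_of_mem P.isPGroup' ha) (by
        nth_rewrite 1 [← e4]; rw [e3, inv_mul_cancel]))
    · have hn2 : ¬ IsPElem 2 (t * u) := fun h => hc (hC.comm_of_two_elem ht hu h)
      obtain ⟨k, hz, hzt, hzu⟩ := hC.exists_inverted ht hu hn2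
      set z := (t * u) ^ k with hzdef
      have hz1 : z ≠ 1 := fun e => by rw [e, orderOf_one] at hz; exact hp.out.ne_one hz.symm
      obtain ⟨P, hzP, hle, hPu⟩ := hC.sylow_of_order hz (hC.even_of_inverted ht hzt)
      have hPt : t ∈ Subgroup.normalizer ((P : Subgroup G) : Set G) := hle (hC.mem_normalizer_zpowers ht hzt)
      have hPu' : u ∈ Subgroup.normalizer ((P : Subgroup G) : Set G) := hle (hC.mem_normalizer_zpowers hu hzu)
      -- an involution centralising `P`
      obtain ⟨P0, -, hP0, hP0inv⟩ := hC.exists_fix hA' ht0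
      obtain ⟨h, hh⟩ := MulAction.exists_smul_eq G P0 P
      set v := h * t0 * h⁻¹ with hvdef
      have hvo : orderOf v = 2 := orderOf_inv_conj ht0 h
      have hvP : ∀ a ∈ (P : Subgroup G), v * a = a * v := by
        intro a ha
        rw [← hh, Sylow.coe_subgroup_smul, CfsgLib.MaxCent.mem_conj_smul_iff] at ha
        have h1 := mem_cent.1 (hP0 _ ha)
        calc v * a = h * (t0 * (h⁻¹ * a * h)) * h⁻¹ := by rw [hvdef]; group
          _ = h * ((h⁻¹ * a * h) * t0) * h⁻¹ := by rw [h1]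
          _ = a * v := by rw [hvdef]; group
      -- any two such involutions are equal
      have hvu : ∀ w : G, orderOf w = 2 → (∀ a ∈ (P : Subgroup G), w * a = a * w) → w = v := by
        intro w hwo hwP
        obtain ⟨Pv, -, hPv, hPvinv⟩ := hC.exists_fix hA' hvo
        have hzv : z ∈ cent v := mem_cent.2 (hvP z hzP).symm
        have hle2 : (Pv : Subgroup G) ≤ (P : Subgroup G) := fun a ha =>
          hC.pelem_cent_mem hvo hzP hz1 hzv (isPElem_of_mem Pv.isPGroup' ha) (hPv a ha)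
        obtain rfl : P = Pv := Sylow.ext (Pv.3 P.isPGroup' hle2)
        refine hself hvo hwo hPvinv ?_ hwP
        by_contra hnc
        obtain ⟨j, hj, hjv, -⟩ := hC.exists_inverted hvo hwo fun h => hnc (hC.comm_of_two_elem hvo hwo h)
        have hcz : v * w ∈ cent z := mul_mem (mem_cent.2 (hvP z hzP)) (mem_cent.2 (hwP z hzP))
        have h4 : (v * w) ^ j ∈ (P : Subgroup G) :=
          pelem_mem_sylow (hC.isPElem_of_order hj) (hC.cent_le_of_order hle (pow_mem hcz j))
        rw [hvP _ h4, mul_inv_cancel_right] at hjv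
        have h5 := eq_one_of_sq hC.ne_two (hC.isPElem_of_order hj) (by nth_rewrite 1 [hjv]; rw [inv_mul_cancel])
        rw [h5, orderOf_one] at hj
        exact hp.out.ne_one hj.symm
      have hcomm : ∀ {s : G}, orderOf s = 2 → s ∈ Subgroup.normalizer ((P : Subgroup G) : Set G) → s * v = v * s := by
        intro s hs hsn
        have h1 : s * v * s⁻¹ = v := by
          refine hvu _ (orderOf_inv_conj hvo s) fun a ha => ?_
          have h2 := hvP _ ((Subgroup.mem_normalizer_iff.1 (inv_mem hsn) a).1 ha)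
          rw [inv_inv] at h2
          calc s * v * s⁻¹ * a = s * (v * (s⁻¹ * a * s)) * s⁻¹ := by group
            _ = s * ((s⁻¹ * a * s) * v) * s⁻¹ := by rw [h2]
            _ = a * (s * v * s⁻¹) := by group
        exact mul_inv_eq_iff_eq_mul.1 h1
      have hvt : v ≠ t := fun e => hc (by rw [← e]; exact (hcomm hu hPu').symm)
      have hvu' : v ≠ u := fun e => hc (by rw [← e]; exact hcomm ht hPt)
      refine ⟨⟨v, hvo⟩, ⟨⟨fun e => hvt (congrArg Subtype.val e).symm, hcomm ht hPt⟩,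
        ⟨fun e => hvu' (congrArg Subtype.val e), (hcomm hu hPu').symm⟩⟩, ?_⟩
      rintro ⟨w, hw⟩ ⟨⟨-, hwtc⟩, ⟨-, hwuc⟩⟩
      apply Subtype.ext
      refine hvu w hw fun a ha => ?_
      have hcz : z ∈ cent w := by
        refine pow_mem (mul_mem (mem_cent.2 hwtc) (mem_cent.2 hwuc.symm)) k
      obtain ⟨Pw, -, hPw, -⟩ := hC.exists_fix hA' hw
      have hle2 : (Pw : Subgroup G) ≤ (P : Subgroup G) := fun b hb =>
        hC.pelem_cent_mem hw hzP hz1 hcz (isPElem_of_mem Pw.isPGroup' hb) (hPw b hb)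
      obtain rfl : P = Pw := Sylow.ext (Pw.3 P.isPGroup' hle2)
      exact (mem_cent.1 (hPw a ha)).symm
  have hsymm : ∀ a b : I, R a b → R b a := fun a b h => ⟨h.1.symm, h.2.symm⟩
  refine no_friendship R (fun a h => h.1 rfl) hsymm (Finset.univ.filter (R ⟨t0, ht0⟩)).card ?_ (fun a => ?_) huniq
  · obtain ⟨Q, hQ, htQ⟩ := hC.exists_full_mem ht0
    obtain ⟨P, hPn, hPt, hPinv⟩ := hC.exists_fix hA' ht0
    obtain ⟨a, ha, ha1⟩ := hPne P
    obtain ⟨-, ht02, ht03⟩ := inv_spec ht0
    obtain ⟨v, hv, hv1, hvt⟩ : ∃ v ∈ Q, v ≠ 1 ∧ v ≠ t0 := by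
      by_contra hcon
      push Not at hcon
      have hsub : (Q : Set G) ⊆ {1, t0} := fun u hu => by
        by_cases hu1 : u = 1
        · exact Or.inl hu1
        · exact Or.inr (hcon u hu hu1)
      have h6 := Set.ncard_le_ncard hsub (Set.toFinite _)
      have h8 : (Q : Set G).ncard = p + 1 := by rw [← Nat.card_coe_set_eq]; exact hQ.2
      have h7 : ({1, t0} : Set G).ncard ≤ 2 := (Set.ncard_insert_le _ _).trans (by simp)
      have := hC.four_le
      omega
    have hvt1 : v * t0 ≠ 1 := fun e => hvt (by rw [eq_inv_of_mul_eq_one_left e, ht02])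
    have hvt2 : v * t0 ≠ t0 := fun e => hv1 (mul_right_cancel (b := t0) (e.trans (one_mul t0).symm))
    set u := a * v * a⁻¹ with hu
    have huo : orderOf u = 2 := orderOf_inv_conj (hC.full_orderOf hQ hv hv1) a
    have hia := hPinv Q hQ htQ v hv hv1 hvt a ha
    have hu' : u = a * a * v := by
      have : v * a⁻¹ = a * v := by
        have h2 := hPinv Q hQ htQ v hv hv1 hvt a⁻¹ (inv_mem ha)
        rw [inv_inv] at h2
        exact mul_inv_eq_iff_eq_mul.1 h2
      rw [hu, mul_assoc, this, ← mul_assoc]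
    have hpa : IsPElem p a := isPElem_of_mem P.isPGroup' ha
    have huv : u ≠ v := fun e => ha1 (eq_one_of_sq hC.ne_two hpa (mul_right_cancel (b := v) (by rw [← hu', e, one_mul])))
    have huvt : u ≠ v * t0 := by
      intro e
      have h1 : a * a = t0 := mul_right_cancel (b := v) (by rw [← hu', e, hC.full_comm hQ hv htQ])
      have h2 : a ^ 2 = t0 := by rw [pow_two]; exact h1
      exact ht03 (mem_two_and_pelem hC.ne_two (h2 ▸ IsPElem.pow' hpa 2) ⟨1, by rw [pow_one, pow_two]; exact (inv_spec ht0).1⟩)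
    have hut : u ≠ t0 := by
      intro e
      have h1 : v = a⁻¹ * t0 * a := by rw [← e, hu]; group
      exact hvt (by rw [h1, mul_assoc, ← mem_cent.1 (hPt a ha), ← mul_assoc, inv_mul_cancel, one_mul])
    have huc : t0 * u = u * t0 := by
      have h1 : Commute t0 a := (mem_cent.1 (hPt a ha)).symm
      have h2 : Commute t0 v := hC.full_comm hQ htQ hv
      exact ((h1.mul_right h2).mul_right h1.inv_right).eq
    refine Finset.two_lt_card.2 ⟨⟨v, hC.full_orderOf hQ hv hv1⟩, ?_,
      ⟨v * t0, hC.full_orderOf hQ (mul_mem hv htQ) hvt1⟩, ?_, ⟨u, huo⟩, ?_, ?_, ?_, ?_⟩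
    · exact Finset.mem_filter.2 ⟨Finset.mem_univ _, fun e => hvt (congrArg Subtype.val e).symm, hC.full_comm hQ htQ hv⟩
    · exact Finset.mem_filter.2 ⟨Finset.mem_univ _, fun e => hvt2 (congrArg Subtype.val e).symm,
        hC.full_comm hQ htQ (mul_mem hv htQ)⟩
    · exact Finset.mem_filter.2 ⟨Finset.mem_univ _, fun e => hut (congrArg Subtype.val e).symm, huc⟩
    · exact fun e => ht03 (mul_left_cancel ((congrArg Subtype.val e).symm.trans (mul_one v).symm))
    · exact fun e => huv (congrArg Subtype.val e).symm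
    · exact fun e => huvt (congrArg Subtype.val e).symm
  · obtain ⟨h, hh⟩ := hC.inv_conj ht0 a.2
    have hmap : ∀ {x y : G}, x * y = y * x → (h * x * h⁻¹) * (h * y * h⁻¹) = (h * y * h⁻¹) * (h * x * h⁻¹) := by
      intro x y e
      calc (h * x * h⁻¹) * (h * y * h⁻¹) = h * (x * y) * h⁻¹ := by group
        _ = h * (y * x) * h⁻¹ := by rw [e]
        _ = _ := by group
    symm
    refine Finset.card_bij (fun x _ => ⟨h * x.1 * h⁻¹, orderOf_inv_conj x.2 h⟩) ?_ ?_ ?_
    · intro x hx
      rw [Finset.mem_filter] at hx ⊢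
      refine ⟨Finset.mem_univ _, fun e => hx.2.1 (Subtype.ext ?_), ?_⟩
      · have e1 : (a : G) = h * x.1 * h⁻¹ := congrArg Subtype.val e
        exact mul_left_cancel (mul_right_cancel (hh.symm.trans e1))
      · show (a : G) * _ = _ * (a : G)
        rw [hh]; exact hmap hx.2.2
    · intro x _ y _ e
      exact Subtype.ext (mul_left_cancel (mul_right_cancel (congrArg Subtype.val e : h * x.1 * h⁻¹ = h * y.1 * h⁻¹)))
    · intro y hy
      rw [Finset.mem_filter] at hy
      refine ⟨⟨h⁻¹ * y.1 * h, by simpa using orderOf_inv_conj y.2 h⁻¹⟩, ?_, ?_⟩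
      · rw [Finset.mem_filter]
        refine ⟨Finset.mem_univ _, fun e => hy.2.1 (Subtype.ext ?_), ?_⟩
        · have e1 : t0 = h⁻¹ * y.1 * h := congrArg Subtype.val e
          rw [hh, e1]; group
        · show t0 * (h⁻¹ * y.1 * h) = (h⁻¹ * y.1 * h) * t0
          have h3 : (a : G) * y.1 = y.1 * a := hy.2.2
          calc t0 * (h⁻¹ * y.1 * h) = h⁻¹ * ((h * t0 * h⁻¹) * y.1) * h := by group
            _ = h⁻¹ * (y.1 * (h * t0 * h⁻¹)) * h := by rw [← hh, h3]
            _ = _ := by group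
      · exact Subtype.ext (show h * (h⁻¹ * y.1 * h) * h⁻¹ = y.1 by group)

theorem false_of_fixed_free (hB : ∀ t z : G, orderOf t = 2 → IsPElem p z → z ∈ cent t → z = 1) : False := by
  classical
  haveI := Fact.mk Nat.prime_two
  obtain ⟨t, ht⟩ := exists_prime_orderOf_dvd_card' 2 hC.even
  obtain ⟨ht1, ht2, ht3⟩ := inv_spec ht
  obtain ⟨Q, hQ, htQ⟩ := hC.exists_full_mem ht
  have hcent : Q = cent t := by
    obtain ⟨K, hK, hKle, -, -, hKb⟩ := hC.exists_inv_kernel ht
    exact hC.full_eq_of_le hQ (hKb (eq_bot_iff.2 fun x hx =>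
        Subgroup.mem_bot.2 (hB t x ht (isPElem_of_mem hK hx) (hKle hx))))
      (fun v hv => mem_cent.2 (hC.full_comm hQ hv htQ))
  have hfree : ∀ {P : Sylow p G} {s : G}, orderOf s = 2 → s ∈ Subgroup.normalizer ((P : Subgroup G) : Set G) →
      ∀ a ∈ (P : Subgroup G), s * a * s⁻¹ = a⁻¹ := by
    intro P s hs hsn a ha
    obtain ⟨hs1, hs2, -⟩ := inv_spec hs
    have hsa : s * a * s⁻¹ ∈ (P : Subgroup G) := (Subgroup.mem_normalizer_iff.1 hsn a).1 ha
    have hc : a * (s * a * s⁻¹) ∈ cent s := by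
      refine mem_cent.2 ?_
      rw [hs2] at hsa ⊢
      rw [hC.ab.comm P.isPGroup' ha hsa]
      calc s * a * s * a * s = (s * a * s) * a * s := by group
        _ = a * (s * a * s) * s := by rw [hC.ab.comm P.isPGroup' hsa ha]
        _ = a * (s * a) * (s * s) := by group
        _ = (s * s) * (a * (s * a)) := by rw [hs1]; group
        _ = s * (s * a * s * a) := by group
    exact eq_inv_of_mul_eq_one_right (hB s _ hs (isPElem_of_mem P.isPGroup' (mul_mem ha hsa)) hc)
  -- the number of involutions is divisible by `p`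
  let I := {s : G // orderOf s = 2}
  letI : MulAction G I :=
    { smul := fun g s => ⟨g * s.1 * g⁻¹, orderOf_inv_conj s.2 g⟩
      one_smul := fun s => Subtype.ext (show (1 : G) * s.1 * 1⁻¹ = s.1 by group)
      mul_smul := fun g g' s => Subtype.ext (show g * g' * s.1 * (g * g')⁻¹ = g * (g' * s.1 * g'⁻¹) * g⁻¹ by group) }
  obtain ⟨P0⟩ : Nonempty (Sylow p G) := inferInstance
  have hI : p ∣ Nat.card I := by
    have h := (P0.isPGroup').card_modEq_card_fixedPoints I
    haveI : IsEmpty (MulAction.fixedPoints (P0 : Subgroup G) I) := by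
      refine ⟨fun s => ?_⟩
      obtain ⟨a, ha, ha1⟩ := (P0 : Subgroup G).bot_or_exists_ne_one.resolve_left (P0.ne_bot_of_dvd_card hC.dvd)
      have h1 : a * s.1.1 * a⁻¹ = s.1.1 := congrArg Subtype.val (s.2 ⟨a, ha⟩)
      exact ha1 (hB _ a s.1.2 (isPElem_of_mem P0.isPGroup' ha) (mem_cent.2 (mul_inv_eq_iff_eq_mul.1 h1)))
    rw [Nat.card_of_isEmpty (α := MulAction.fixedPoints (P0 : Subgroup G) I)] at h
    exact Nat.modEq_zero_iff_dvd.1 h
  -- Sylow subgroups normalised by `t`
  let F := {P : Sylow p G // t ∈ Subgroup.normalizer ((P : Subgroup G) : Set G)}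
  let S := {s : I // s.1 ∉ Q}
  let T := Σ P : F, {a : (P.1 : Subgroup G) // a ≠ 1}
  have hnc : ∀ s : S, ¬ t * s.1.1 = s.1.1 * t := fun s h => s.2 (hcent.ge (mem_cent.2 h.symm))
  have hat : ∀ x : T, (x.2.1 : G) * t * ((x.2.1 : G) * t) = 1 := by
    intro x
    have h1 := hfree ht x.1.2 _ x.2.1.2
    calc (x.2.1 : G) * t * ((x.2.1 : G) * t) = (x.2.1 : G) * (t * x.2.1 * t⁻¹) * (t * t) := by group
      _ = 1 := by rw [h1, ht1]; group
  have hat1 : ∀ x : T, (x.2.1 : G) * t ≠ 1 ∧ (x.2.1 : G) * t ∉ Q := by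
    intro x
    have hap : IsPElem p (x.2.1 : G) := isPElem_of_mem x.1.1.isPGroup' x.2.1.2
    refine ⟨fun e => x.2.2 (Subtype.ext (mem_two_and_pelem hC.ne_two hap ?_)), fun e => x.2.2 (Subtype.ext ?_)⟩
    · rw [eq_inv_of_mul_eq_one_left e, ht2]
      exact ⟨1, by rw [pow_one, pow_two]; exact ht1⟩
    · have h1 : (x.2.1 : G) ∈ Q := by
        have := mul_mem e htQ
        rwa [mul_assoc, ht1, mul_one] at this
      exact mem_two_and_pelem hC.ne_two hap (isPElem_of_mem hQ.1 h1)
  let f : T → S := fun x => ⟨⟨(x.2.1 : G) * t,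
    orderOf_eq_prime (by rw [pow_two]; exact hat x) (hat1 x).1⟩, (hat1 x).2⟩
  -- the unique Sylow subgroup attached to a product
  have huq : ∀ {P P' : Sylow p G} {a : G}, t ∈ Subgroup.normalizer ((P : Subgroup G) : Set G) →
      a ∈ (P : Subgroup G) → a ≠ 1 → a ∈ (P' : Subgroup G) → P = P' := by
    intro P P' a hP ha ha1 ha'
    obtain ⟨k, hk⟩ := exists_order_p (isPElem_of_mem P.isPGroup' ha) ha1
    obtain ⟨P2, -, -, hu⟩ := hC.sylow_of_order hk (hC.even_of_inverted ht (hfree ht hP _ (pow_mem ha k)))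
    rw [hu P (pow_mem ha k), hu P' (pow_mem ha' k)]
  have hinj : Function.Injective f := by
    rintro ⟨⟨P, hP⟩, ⟨⟨a, ha⟩, ha1⟩⟩ ⟨⟨P', hP'⟩, ⟨⟨a', ha'⟩, ha'1⟩⟩ e
    have e1 : a * t = a' * t := congrArg (fun s : S => s.1.1) e
    obtain rfl := mul_right_cancel e1
    obtain rfl := huq hP ha (fun e => ha1 (Subtype.ext e)) ha'
    rfl
  have hsurj : Function.Surjective f := by
    intro s
    obtain ⟨k, hz, hzt, hzu⟩ := hC.exists_inverted ht s.1.2 fun h => hnc s (hC.comm_of_two_elem ht s.1.2 h)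
    set z := (t * s.1.1) ^ k with hzdef
    obtain ⟨P, hzP, hle, -⟩ := hC.sylow_of_order hz (hC.even_of_inverted ht hzt)
    have hPt := hle (hC.mem_normalizer_zpowers ht hzt)
    have hPs := hle (hC.mem_normalizer_zpowers s.1.2 hzu)
    obtain ⟨hs1, hs2, hs3⟩ := inv_spec s.1.2
    set d := s.1.1 * t with hd
    have hdP : d ∈ (P : Subgroup G) := by
      refine CfsgLib.MaxCent.mem_of_parts fun q hq j hqj => ?_
      by_cases hqp : q = p
      · subst hqp
        exact pelem_mem_sylow hqj (pow_mem (mul_mem hPs hPt) j)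
      haveI := Fact.mk hq
      suffices d ^ j = 1 by rw [this]; exact one_mem _
      by_contra hj1
      obtain ⟨m, hm⟩ : ∃ m, orderOf ((d ^ j) ^ m) = q :=
        ⟨_, orderOf_pow_orderOf_div (orderOf_pos _).ne' (dvd_orderOf hqj hj1)⟩
      by_cases hq2 : q = 2
      · subst hq2
        have hcz : d ∈ cent z := by
          refine mem_cent.2 ?_
          have h1 := hfree s.1.2 hPs z hzP
          have h2 := hfree ht hPt z hzP
          have : d * z * d⁻¹ = z := by
            calc d * z * d⁻¹ = s.1.1 * (t * z * t⁻¹) * s.1.1⁻¹ := by rw [hd]; group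
              _ = (s.1.1 * z * s.1.1⁻¹)⁻¹ := by rw [h2]; group
              _ = z := by rw [h1, inv_inv]
          exact mul_inv_eq_iff_eq_mul.1 this
        have h3 : z ∈ cent ((d ^ j) ^ m) := mem_cent.2 (mem_cent.1 (pow_mem (pow_mem hcz j) m)).symm
        have h4 := hB _ z hm (hC.isPElem_of_order hz) h3
        rw [h4, orderOf_one] at hz
        exact hp.out.ne_one hz.symm
      · refine hqp (hC.inverted_prime hq hq2 s.1.2 hm ?_)
        exact hC.inverted_pow (hC.inverted_pow (hC.inverts_mul s.1.2 ht).1 j) m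
    have hd1 : d ≠ 1 := fun e => hnc s (by rw [eq_inv_of_mul_eq_one_left e, ht2])
    refine ⟨⟨⟨P, hPt⟩, ⟨⟨d, hdP⟩, fun e => hd1 (congrArg Subtype.val e)⟩⟩, Subtype.ext (Subtype.ext ?_)⟩
    show d * t = s.1.1
    rw [hd, mul_assoc, ht1, mul_one]
  -- counting
  have hPcard : ∀ P : Sylow p G, Nat.card {a : (P : Subgroup G) // a ≠ 1} + 1 = p ^ (Nat.card G).factorization p := by
    intro P
    rw [← P.card_eq_multiplicity]
    have h1 := Nat.card_coe_set_eq ({a : (P : Subgroup G) | a ≠ 1})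
    have h2 : ({a : (P : Subgroup G) | a ≠ 1}) = ({1} : Set (P : Subgroup G))ᶜ := rfl
    have h3 : 0 < Nat.card (P : Subgroup G) := Nat.card_pos
    change Nat.card {a : (P : Subgroup G) // a ≠ 1} = _ at h1
    rw [h1, h2, Set.ncard_compl, Set.ncard_singleton]
    omega
  have hpP : p ∣ p ^ (Nat.card G).factorization p :=
    dvd_pow_self p ((hp.out.factorization_pos_of_dvd Nat.card_pos.ne' hC.dvd).ne')
  have hFS : Nat.card S + Nat.card F = Nat.card F * p ^ (Nat.card G).factorization p := by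
    haveI : Fintype F := Fintype.ofFinite _
    rw [← Nat.card_congr (Equiv.ofBijective f ⟨hinj, hsurj⟩), Nat.card_sigma, Nat.card_eq_fintype_card,
      Fintype.card_eq_sum_ones, ← Finset.sum_add_distrib]
    simp only [hPcard]
    simp
  have hIS : Nat.card I = p + Nat.card S := by
    have h1 : Nat.card {s : I // s.1 ∈ Q} = p := by
      have e : {s : I // s.1 ∈ Q} ≃ {a : Q // a ≠ 1} :=
        { toFun := fun s => ⟨⟨s.1.1, s.2⟩, fun e => (inv_spec s.1.2).2.2 (congrArg Subtype.val e)⟩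
          invFun := fun a => ⟨⟨a.1.1, hC.full_orderOf hQ a.1.2 fun e => a.2 (Subtype.ext e)⟩, a.1.2⟩
          left_inv := fun _ => rfl
          right_inv := fun _ => rfl }
      rw [Nat.card_congr e]
      have h2 := Nat.card_coe_set_eq ({a : Q | a ≠ 1})
      change Nat.card {a : Q // a ≠ 1} = _ at h2
      rw [h2, show ({a : Q | a ≠ 1}) = ({1} : Set Q)ᶜ from rfl, Set.ncard_compl, Set.ncard_singleton, hQ.2]
      omega
    rw [← h1, ← Nat.card_sum, Nat.card_congr (Equiv.sumCompl fun s : I => s.1 ∈ Q)]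
  have hpS : p ∣ Nat.card S := by
    rw [hIS] at hI; exact (Nat.dvd_add_right dvd_rfl).1 hI
  have hpF : p ∣ Nat.card F := by
    have := hFS ▸ (hpP.mul_left (Nat.card F))
    exact (Nat.dvd_add_right hpS).1 this
  -- the fixed Sylow subgroups form an orbit of `Q`
  obtain ⟨P1, hP1⟩ : Nonempty F := by
    by_contra hne
    rw [not_nonempty_iff] at hne
    haveI : IsEmpty T := ⟨fun x => hne.false x.1⟩
    haveI : IsEmpty S := ⟨fun s => by obtain ⟨x, -⟩ := hsurj s; exact isEmptyElim x⟩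
    refine hC.not_normal_two hQ.1 (fun e => by rw [e] at htQ; exact ht3 (Subgroup.mem_bot.1 htQ)) ?_
    refine eq_top_iff.2 fun g _ => Subgroup.mem_normalizer_iff_map_conj_eq.2 ?_
    refine Subgroup.eq_of_le_of_card_ge ?_ (by rw [Subgroup.card_map_of_injective (MulAut.conj g).injective])
    rintro _ ⟨v, hv, rfl⟩
    by_contra hvQ
    have hv1 : v ≠ 1 := fun e => hvQ (by rw [e, map_one]; exact one_mem _)
    exact (inferInstance : IsEmpty S).false ⟨⟨_, orderOf_inv_conj (hC.full_orderOf hQ hv hv1) g⟩, hvQ⟩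
  have horb : ∀ P : Sylow p G, t ∈ Subgroup.normalizer ((P : Subgroup G) : Set G) ↔ P ∈ MulAction.orbit Q P1 := by
    intro P
    constructor
    · intro hP
      obtain ⟨h, rfl⟩ := MulAction.exists_smul_eq G P1 P
      have hs : h⁻¹ * t * h ∈ Subgroup.normalizer ((P1 : Subgroup G) : Set G) := by
        have hP2 : t • (h • P1) = h • P1 := Sylow.smul_eq_iff_mem_normalizer.2 hP
        refine Sylow.smul_eq_iff_mem_normalizer.1 ?_
        rw [mul_smul, mul_smul, hP2, inv_smul_smul]
      have hso : orderOf (h⁻¹ * t * h) = 2 := by simpa using orderOf_inv_conj ht h⁻¹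
      set s := h⁻¹ * t * h with hsd
      have hda : s * t ∈ (P1 : Subgroup G) := by
        refine CfsgLib.MaxCent.mem_of_parts fun q hq j hqj => ?_
        by_cases hqp : q = p
        · subst hqp
          exact pelem_mem_sylow hqj (pow_mem (mul_mem hs hP1) j)
        haveI := Fact.mk hq
        suffices (s * t) ^ j = 1 by rw [this]; exact one_mem _
        by_contra hj1
        obtain ⟨m, hm⟩ : ∃ m, orderOf (((s * t) ^ j) ^ m) = q :=
          ⟨_, orderOf_pow_orderOf_div (orderOf_pos _).ne' (dvd_orderOf hqj hj1)⟩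
        by_cases hq2 : q = 2
        · subst hq2
          obtain ⟨a, ha, ha1⟩ := (P1 : Subgroup G).bot_or_exists_ne_one.resolve_left (P1.ne_bot_of_dvd_card hC.dvd)
          have hcz : s * t ∈ cent a := by
            refine mem_cent.2 ?_
            have : (s * t) * a * (s * t)⁻¹ = a := by
              calc (s * t) * a * (s * t)⁻¹ = s * (t * a * t⁻¹) * s⁻¹ := by group
                _ = (s * a * s⁻¹)⁻¹ := by rw [hfree ht hP1 a ha]; group
                _ = a := by rw [hfree hso hs a ha, inv_inv]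
            exact mul_inv_eq_iff_eq_mul.1 this
          exact ha1 (hB _ a hm (isPElem_of_mem P1.isPGroup' ha) (mem_cent.2 (mem_cent.1 (pow_mem (pow_mem hcz j) m)).symm))
        · refine hqp (hC.inverted_prime hq hq2 hso hm ?_)
          exact hC.inverted_pow (hC.inverted_pow (hC.inverts_mul hso ht).1 j) m
      -- a square root
      obtain ⟨n, hn⟩ := IsPElem.orderOf_eq (isPElem_of_mem P1.isPGroup' hda)
      obtain ⟨i, hi⟩ : ∃ i, orderOf (s * t) = 2 * i + 1 := by
        rw [hn]; exact (hp.out.odd_of_ne_two hC.ne_two).pow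
      set b := (s * t) ^ (i + 1) with hb
      have hbP : b ∈ (P1 : Subgroup G) := pow_mem hda _
      have hbb : b * b = s * t := by
        rw [hb, ← pow_add, show i + 1 + (i + 1) = orderOf (s * t) + 1 by omega, pow_succ, pow_orderOf_eq_one, one_mul]
      have hbt : b * t * b⁻¹ = s := by
        calc b * t * b⁻¹ = b * (t * b⁻¹ * t⁻¹) * t := by group
          _ = b * b * t := by rw [hfree ht hP1 _ (inv_mem hbP), inv_inv]
          _ = s := by rw [hbb, mul_assoc, ht1, mul_one]
      have hq' : h * b ∈ Q := by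
        rw [hcent]
        refine mem_cent.2 (mul_inv_eq_iff_eq_mul.1 ?_)
        calc h * b * t * (h * b)⁻¹ = h * (b * t * b⁻¹) * h⁻¹ := by group
          _ = t := by rw [hbt, hsd]; group
      refine ⟨⟨h * b, hq'⟩, ?_⟩
      show (h * b) • P1 = h • P1
      rw [mul_smul, Sylow.smul_eq_iff_mem_normalizer.2 (Subgroup.le_normalizer hbP)]
    · rintro ⟨⟨q, hq⟩, rfl⟩
      have hP2 : t • P1 = P1 := Sylow.smul_eq_iff_mem_normalizer.2 hP1
      refine Sylow.smul_eq_iff_mem_normalizer.1 ?_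
      show t • q • P1 = q • P1
      rw [← mul_smul, hC.full_comm hQ htQ hq, mul_smul, hP2]
  obtain ⟨n, hn⟩ := hQ.1.card_orbit P1
  rw [Nat.card_congr (Equiv.subtypeEquivRight horb), show Nat.card {P // P ∈ MulAction.orbit Q P1} = 2 ^ n from hn] at hpF
  exact hC.ne_two ((Nat.prime_dvd_prime_iff_eq hp.out Nat.prime_two).1 (hp.out.dvd_of_dvd_pow hpF))

theorem false : False := by
  by_cases hA : ∃ t z : G, orderOf t = 2 ∧ z ≠ 1 ∧ IsPElem p z ∧ z ∈ cent t
  · exact hC.no_fixed hA
  · push Not at hA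
    exact hC.false_of_fixed_free fun t z ht hz hzt => by
      by_contra hz1
      exact hA t z ht hz1 hz hzt

end Cfg

end CfsgLib.TwoPrime
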