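import Mathlib
import Cfsg.Agent.TwoPrime.Final

/-!
Only two primes divide the order.
-/

set_option autoImplicit false
set_option linter.style.haveILetI false

namespace CfsgLib.TwoPrime

universe u

theorem primes_eq {p q : ℕ} [hp : Fact p.Prime] [hq : Fact q.Prime] (hpq : p ≠ q) (hp2 : p ≠ 2) :
    ∀ (n : ℕ) (G : Type u) [Group G] [Finite G], Nat.card G = n → Mixed q p G →
      (q ^ (Nat.card G).factorization q ≤ p ∨ (q ^ (Nat.card G).factorization q = p + 1 ∧ AbP p G)) →
      p ∣ Nat.card G → q ∣ Nat.card G → ∀ r : ℕ, r.Prime → r ∣ Nat.card G → r = p ∨ r = q := by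
  intro n
  induction n using Nat.strong_induction_on with
  | _ n ih =>
    intro G _ _ hn hM hcond hpG hqG r hr hrG
    by_contra hcon
    push Not at hcon
    obtain ⟨V, g, hV, hg, hgc, hgp⟩ := exists_auto hM hpq (not_complement hM hpq hr hcon.1 hcon.2 hrG hqG)
    have h1 := (auto_bound hpq hV hg hgc hgp).1
    obtain ⟨S, hS⟩ := hV.exists_le_sylow
    have h2 : Nat.card V ≤ q ^ (Nat.card G).factorization q :=
      (Subgroup.card_le_of_le hS).trans S.card_eq_multiplicity.le
    rcases hcond with h | ⟨h, hab⟩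
    · omega
    have hq2 : q = 2 := by
      by_contra hne
      obtain ⟨a, ha⟩ := (hq.out.odd_of_ne_two hne).pow (n := (Nat.card G).factorization q)
      obtain ⟨b, hb⟩ := hp.out.odd_of_ne_two hp2
      omega
    subst hq2
    refine Cfg.false (p := p) (G := G) ⟨hM, hab, h, hp2, hpG, ⟨r, hr, hrG, hcon.1, hcon.2⟩, fun H hH hH2 s hs hsH => ?_⟩
    by_cases hpH : p ∣ Nat.card H
    · refine ih (Nat.card H) ?_ H rfl (hM.sub H) ?_ hpH hH2 s hs hsH
      · rw [← hn]
        exact lt_of_le_of_ne (Subgroup.card_le_card_group _) fun e => hH (Subgroup.eq_top_of_card_eq _ e)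
      · have hle : (Nat.card H).factorization 2 ≤ (Nat.card G).factorization 2 :=
          (Nat.factorization_le_iff_dvd Nat.card_pos.ne' Nat.card_pos.ne').2 (Subgroup.card_subgroup_dvd_card H) 2
        rcases hle.eq_or_lt with e | e
        · exact Or.inr ⟨by rw [e]; exact h, hab.sub H⟩
        · left
          have := Nat.pow_lt_pow_right (by norm_num : 1 < 2) e
          omega
    · obtain ⟨k, hk⟩ := IsPGroup.iff_card.1 (hM H hH2 hpH)
      exact Or.inr ((Nat.prime_dvd_prime_iff_eq hs Nat.prime_two).1 (hs.dvd_of_dvd_pow (hk ▸ hsH)))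

end CfsgLib.TwoPrime
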